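import Groth.Agent.BunMod.K54.FittBC
import Groth.Agent.BunMod.K140.Defs
import Groth.Agent.ASBun.K791.Tens
import Groth.Agent.Coherent.K45.HomLift
import Groth.Agent.PerfC.PullRestrict
import Groth.Agent.EssDim.K995.GenusField
import Groth.Agent.Fga.EulerLEAdd
import Groth.Agent.Fga.RigGrp
import Groth.Agent.VBCurve.K703.Basic
import Groth.Agent.Desc.FinLocFreeSections
import Groth.Agent.Sga67.LocBasisOps

/-!
# The theta ideal of a family: base change

`X` proper of dimension `≤ 1` over a field, `E` finite locally free on `X_T`, `N` finite locally free on `X`, `T`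
arbitrary over `Spec k`.

* `thetaIdeal_pl`: `thetaIdeal` commutes with every base change `T' ⟶ T`;
* `thetaIdeal_iso`: isomorphic families have the same theta ideal.
-/

set_option autoImplicit false
universe u

open CategoryTheory CategoryTheory.Limits AlgebraicGeometry TensorProduct

namespace K54.Theta

open Groth.Agent K140.BM Groth.Agent.Fga.RigGrp

section Gen

variable {k : Type u} [Field k] {X : Scheme.{u}} [X.Over (Spec (CommRingCat.of k))]

/-- The cartesian square of `X_{T'} ⟶ X_T`. -/
theorem isPullback_XTmap {T T' : Over (B0 k)} (g : T' ⟶ T) :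
    IsPullback (PicF.XTmap (st k X) g) (PicF.XTproj (st k X) T') (PicF.XTproj (st k X) T) g.left := by
  refine IsPullback.of_right ?_ (XTmap_XTproj (st k X) g) (IsPullback.of_hasPullback (st k X) T.hom)
  rw [XTmap_fst, Over.w]
  exact IsPullback.of_hasPullback (st k X) T'.hom

instance flat_XTproj (T : Over (B0 k)) : Flat (PicF.XTproj (st k X) T) := inferInstance

/-- The fibre of `X_T ⟶ T` at `t` as a base change of `X`. -/
theorem isPullback_fiber (T : Over (B0 k)) (t : T.left) :
    IsPullback ((PicF.XTproj (st k X) T).fiberι t ≫ pullback.fst (st k X) T.hom)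
      ((PicF.XTproj (st k X) T).fiberToSpecResidueField t) (st k X) (T.left.fromSpecResidueField t ≫ T.hom) :=
  have h : IsPullback ((PicF.XTproj (st k X) T).fiberι t) ((PicF.XTproj (st k X) T).fiberToSpecResidueField t)
      (PicF.XTproj (st k X) T) (T.left.fromSpecResidueField t) := IsPullback.of_hasPullback _ _
  h.paste_horiz (IsPullback.of_hasPullback (st k X) T.hom)

theorem fibre_dim [LocallyOfFiniteType (st k X)] (hdim : topologicalKrullDim X ≤ 1) (T : Over (B0 k)) (t : T.left) :
    topologicalKrullDim ((PicF.XTproj (st k X) T).fiber t) ≤ 1 := by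
  have h2 : IsPullback (pullback.fst (st k X) T.hom) (pullback.snd (st k X) T.hom) (st k X) T.hom :=
    IsPullback.of_hasPullback _ _
  rw [K995.GenusField.dim_eq_of_isPullback (k := k) (k' := T.left.residueField t) (isPullback_fiber T t)]
  exact hdim

theorem subsingleton_fiberH [IsProper (st k X)] (hdim : topologicalKrullDim X ≤ 1) (T : Over (B0 k))
    (G : (PicF.XT (st k X) T).Modules) (t : T.left) (p : ℕ) (hp : 2 ≤ p) :
    Subsingleton (CohIII.fiberH (PicF.XTproj (st k X) T) G t p) := by
  let iO : ((PicF.XTproj (st k X) T).fiber t).Over (Spec (CommRingCat.of (T.left.residueField t))) :=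
    ⟨(PicF.XTproj (st k X) T).fiberToSpecResidueField t⟩
  have : IsProper ((PicF.XTproj (st k X) T).fiber t ↘ Spec (CommRingCat.of (T.left.residueField t))) :=
    MorphismProperty.of_isPullback (isPullback_fiber T t) (inferInstanceAs (IsProper (st k X)))
  have := K703.Basic.isNoetherian (T.left.residueField t) ((PicF.XTproj (st k X) T).fiber t)
  exact Fga.EulerLEAdd.subsingleton_HH _ 1 (fibre_dim hdim T t) _ p (by omega)

end Gen

section Fam

variable {k : Type u} [Field k] {X : Scheme.{u}} [X.Over (Spec (CommRingCat.of k))]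

/-- `E ⊗ N_T`. -/
noncomputable abbrev tw {T : Over (B0 k)} (E : (PicF.XT (st k X) T).Modules) (N : X.Modules) :
    (PicF.XT (st k X) T).Modules := CohB1.tensorMod E (cst k T N)

/-- Pull-back of constant families. -/
noncomputable def cstPl {T T' : Over (B0 k)} (g : T' ⟶ T) (N : X.Modules) : pl k X g (cst k T N) ≅ cst k T' N :=
  (Scheme.Modules.pullbackComp (PicF.XTmap (st k X) g) (pullback.fst (st k X) T.hom)).app N ≪≫
    (Scheme.Modules.pullbackCongr (XTmap_fst (st k X) g)).app N

/-- Twisting commutes with pull-back of families. -/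
noncomputable def twPl {T T' : Over (B0 k)} (g : T' ⟶ T) (E : (PicF.XT (st k X) T).Modules) (N : X.Modules) :
    pl k X g (tw E N) ≅ tw (pl k X g E) N :=
  ASBun.K791.Tens.pullTens _ _ _ ≪≫ ASBun.K791.Tens.tensMap (Iso.refl _) (cstPl g N)

theorem isFinLocFree_cst (T : Over (B0 k)) {N : X.Modules} (hN : FlatMod.IsFinLocFree N) :
    FlatMod.IsFinLocFree (cst k T N) := PerfC.PullRestrict.isFinLocFree_pullback _ hN

theorem isFinLocFree_tw {T : Over (B0 k)} {E : (PicF.XT (st k X) T).Modules} (hE : FlatMod.IsFinLocFree E)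
    {N : X.Modules} (hN : FlatMod.IsFinLocFree N) : FlatMod.IsFinLocFree (tw E N) :=
  Sga67.LocBasis.isFinLocFree_tensorMod hE (isFinLocFree_cst T hN)

variable [IsProper (st k X)] (hdim : topologicalKrullDim X ≤ 1)

include hdim in
theorem isFT_Rpush {T : Over (B0 k)} {G : (PicF.XT (st k X) T).Modules} (hG : FlatMod.IsFinLocFree G) :
    CohB1.IsFT ((Coh.Rpush (PicF.XTproj (st k X) T) 1).obj G) :=
  FittBC.isFT_Rpush _ _ (Desc.FinLocFreeSections.isFP_of_isFinLocFree hG)
    (K45.HomLift.isFlatOver_of_flf _ hG) 1 fun t => subsingleton_fiberH hdim T G t 2 le_rfl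

include hdim in
/-- **The theta ideal commutes with base change.** -/
theorem thetaIdeal_pl {N : X.Modules} (hN : FlatMod.IsFinLocFree N) {T T' : Over (B0 k)} (g : T' ⟶ T)
    {E : (PicF.XT (st k X) T).Modules} (hE : FlatMod.IsFinLocFree E) :
    (thetaIdeal k N T E).comap g.left = thetaIdeal k N T' (pl k X g E) := by
  have h1 := isFinLocFree_tw hE hN
  have h2 := PerfC.PullRestrict.isFinLocFree_pullback (PicF.XTmap (st k X) g) h1
  have h3 := isFinLocFree_tw (PerfC.PullRestrict.isFinLocFree_pullback (PicF.XTmap (st k X) g) hE) hN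
  have h4 := isFT_Rpush hdim h2
  refine (FittBC.fitt_comap _ _ (Desc.FinLocFreeSections.isFP_of_isFinLocFree h1)
    (K45.HomLift.isFlatOver_of_flf _ h1) 1 (fun t => subsingleton_fiberH hdim T _ t 2 le_rfl)
    (isPullback_XTmap g) h4 0).trans ?_
  exact SDiv.K474.FittBlow.sheafIdeal_iso ((Coh.Rpush (PicF.XTproj (st k X) T') 1).mapIso (twPl g E N))
    (FittBC.isQCoh_Rpush _ _ (Desc.FinLocFreeSections.isFP_of_isFinLocFree h2) 1)
    (FittBC.isQCoh_Rpush _ _ (Desc.FinLocFreeSections.isFP_of_isFinLocFree h3) 1) h4 (isFT_Rpush hdim h3) 0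

include hdim in
/-- Isomorphic families have the same theta ideal. -/
theorem thetaIdeal_iso {N : X.Modules} (hN : FlatMod.IsFinLocFree N) {T : Over (B0 k)}
    {E E' : (PicF.XT (st k X) T).Modules} (hE : FlatMod.IsFinLocFree E) (hE' : FlatMod.IsFinLocFree E')
    (e : E ≅ E') : thetaIdeal k N T E = thetaIdeal k N T E' :=
  SDiv.K474.FittBlow.sheafIdeal_iso ((Coh.Rpush (PicF.XTproj (st k X) T) 1).mapIso
      (ASBun.K791.Tens.tensMap e (Iso.refl _)))
    (FittBC.isQCoh_Rpush _ _ (Desc.FinLocFreeSections.isFP_of_isFinLocFree (isFinLocFree_tw hE hN)) 1)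
    (FittBC.isQCoh_Rpush _ _ (Desc.FinLocFreeSections.isFP_of_isFinLocFree (isFinLocFree_tw hE' hN)) 1)
    (isFT_Rpush hdim (isFinLocFree_tw hE hN)) (isFT_Rpush hdim (isFinLocFree_tw hE' hN)) 0

end Fam

end K54.Theta
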