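import Groth.Agent.BunMod.K54.UB
import Groth.Agent.VBCurve.K708.Dual
import Groth.Agent.PerfC.RelFlat
import Groth.Agent.ResProp.K368.FPTens
import Groth.Agent.FBase.K107.ModExt
import Groth.Agent.Coherent.K45.HomCorep
import Groth.Agent.RDer.K887.LES
import Groth.Agent.CohqB.HSeqMod
import Groth.Agent.Models.BTor
import Groth.Agent.Sga67.IdealTorsion
import Groth.Agent.FormalB.TrSys
import Groth.Agent.FormalB.FormalLoc
import Groth.Agent.CohqA.RelCoh
import Groth.Agent.S15985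
import Groth.Agent.Coherent.K54.FibreCx

/-!
# Twisting a family with a short exact sequence of constant families

`S` a short exact sequence of modules on `X`, `E` finite locally free on `X_T`:
* `twS E S : Tw E S.X₁ ⟶ Tw E S.X₂ ⟶ Tw E S.X₃` is short exact (`shortExact_twS`), flat over `T` (`isFlatOver_tw`);
* `injective_smap`, `exact_smap`: exactness on sections;
* `geomH1_of_mid`: `H¹` of the geometric fibres of `Tw E S.X₃` vanishes if that of `Tw E S.X₂` does (curves);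
* `GeomTw`: `H¹(X_Ω, E_Ω ⊗ L) = 0` at all geometric points `tpt s ⟶ T`.
-/

set_option autoImplicit false
universe u

open CategoryTheory CategoryTheory.Limits AlgebraicGeometry TensorProduct

namespace K54.TwExact

open Groth.Agent K140.BM Groth.Agent.Fga.RigGrp K54.Theta K54.GenPull K54.FamSec K54.UB K311.PushFree

variable {k : Type u} [Field k] {X : Scheme.{u}} [X.Over (Spec (CommRingCat.of k))] {T T' T'' : Over (B0 k)}

theorem rmap_comp (E : (PicF.XT (st k X) T).Modules) {L L' L'' : X.Modules} (b : L ⟶ L') (c : L' ⟶ L'') :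
    rmap E (b ≫ c) = rmap E b ≫ rmap E c := by
  rw [PullP.pm_comp, PullP.gr_comp]

theorem cm_zero (T : Over (B0 k)) (L L' : X.Modules) : cm T (0 : L ⟶ L') = 0 := by
  rw [cm_eq, Functor.map_zero]

theorem rmap_zero (E : (PicF.XT (st k X) T).Modules) (S : ShortComplex X.Modules) :
    rmap E S.f ≫ rmap E S.g = 0 := by
  rw [← rmap_comp, S.zero, cm_zero, PullP.gr_zero]

/-- `E ⊗ S_T`. -/
noncomputable def twS (E : (PicF.XT (st k X) T).Modules) (S : ShortComplex X.Modules) :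
    ShortComplex (PicF.XT (st k X) T).Modules :=
  ShortComplex.mk (rmap E S.f) (rmap E S.g) (rmap_zero E S)

theorem twS_f (E : (PicF.XT (st k X) T).Modules) (S : ShortComplex X.Modules) : (twS E S).f = rmap E S.f := rfl

theorem twS_g (E : (PicF.XT (st k X) T).Modules) (S : ShortComplex X.Modules) : (twS E S).g = rmap E S.g := rfl

theorem shortExact_gr {Y : Scheme.{u}} {E : Y.Modules} (hE : FlatMod.IsFinLocFree E) {A B C : Y.Modules} {a : A ⟶ B}
    {b : B ⟶ C} {w : a ≫ b = 0} (hS : (ShortComplex.mk a b w).ShortExact)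
    (w' : PullP.gr E a ≫ PullP.gr E b = 0) : (ShortComplex.mk (PullP.gr E a) (PullP.gr E b) w').ShortExact := by
  have h := K708.Dual.tensorLeft_shortExact hE hS
  have h1 : Mono (PullP.gr E a) := h.mono_f
  have h2 : Epi (PullP.gr E b) := h.epi_g
  have h3 : (ShortComplex.mk (PullP.gr E a) (PullP.gr E b) w').Exact := h.exact
  exact { exact := h3, mono_f := h1, epi_g := h2 }

theorem shortExact_pm {X Y X' Y' : Scheme.{u}} {g : X' ⟶ X} {q : X' ⟶ Y'} {f : X ⟶ Y} {g' : Y' ⟶ Y}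
    (H : IsPullback g q f g') {P : X.Modules → X'.Modules} (h : PullP.IsPB g P) {A B C : X.Modules} {a : A ⟶ B}
    {b : B ⟶ C} {w : a ≫ b = 0} (hS : (ShortComplex.mk a b w).ShortExact) (hC : FlatMod.IsFlatOver f C)
    (w' : PullP.pm h a ≫ PullP.pm h b = 0) : (ShortComplex.mk (PullP.pm h a) (PullP.pm h b) w').ShortExact := by
  cases h
  have := hS.epi_g
  have h1 : Mono ((Scheme.Modules.pullback g).map a) := PerfC.RelFlat.mono_pullback_map H _ hS hC
  have h2 : Epi b := hS.epi_g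
  have h3 : Epi ((Scheme.Modules.pullback g).map b) := inferInstance
  exact { exact := hS.exact.map_of_epi_of_preservesCokernel _ inferInstance inferInstance
          mono_f := h1
          epi_g := h3 }

theorem cm_comp_zero (T : Over (B0 k)) (S : ShortComplex X.Modules) : cm T S.f ≫ cm T S.g = 0 := by
  rw [← PullP.pm_comp, S.zero, cm_zero]

theorem shortExact_cst (T : Over (B0 k)) {S : ShortComplex X.Modules} (hS : S.ShortExact) :
    (ShortComplex.mk (cm T S.f) (cm T S.g) (cm_comp_zero T S)).ShortExact :=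
  shortExact_pm (IsPullback.of_hasPullback (st k X) T.hom) (isPB_cst T) hS
    (K107.ModExt.flat_over_field _ _) (cm_comp_zero T S)

theorem shortExact_twS {E : (PicF.XT (st k X) T).Modules} (hE : FlatMod.IsFinLocFree E)
    {S : ShortComplex X.Modules} (hS : S.ShortExact) : (twS E S).ShortExact :=
  shortExact_gr hE (shortExact_cst T hS) (rmap_zero E S)

theorem isFlatOver_cst (T : Over (B0 k)) (Q : X.Modules) :
    FlatMod.IsFlatOver (PicF.XTproj (st k X) T) (cst k T Q) :=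
  FormalB.BC.isFlatOver_pullback (IsPullback.of_hasPullback (st k X) T.hom) Q
    (K107.ModExt.flat_over_field _ _)

theorem isFlatOver_tw {E : (PicF.XT (st k X) T).Modules} (hE : FlatMod.IsFinLocFree E) (Q : X.Modules) :
    FlatMod.IsFlatOver (PicF.XTproj (st k X) T) (Tw E Q) :=
  Models2.FlatIso.isFlatOver_of_iso _ (Ega2.Tens.swap (cst k T Q) E)
    (K45.HomCorep.isFlatOver_tensor_flf _ hE (isFlatOver_cst T Q))

theorem isFP_tw {E : (PicF.XT (st k X) T).Modules} (hE : FlatMod.IsFinLocFree E) {Q : X.Modules}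
    (hQ : CohB1.IsFP Q) : CohB1.IsFP (Tw E Q) :=
  ResProp.K368.FPTens.isFP_tensorMod (Desc.FinLocFreeSections.isFP_of_isFinLocFree hE)
    (SDiv.K474.FittBlow2.isFP_pullback _ hQ)

section Sections

variable {Y Z : Scheme.{u}} (q : Y ⟶ Z)

/-- Injectivity on sections. -/
theorem injective_gsmap {A B : Y.Modules} (a : A ⟶ B) [Mono a] : Function.Injective (gsmap q a) := fun x y h =>
  Sga67.IdealTorsion.app_injective_of_mono a (q ⁻¹ᵁ ⊤) h

/-- Exactness on sections. -/
theorem exact_gsmap {S : ShortComplex Y.Modules} (hS : S.ShortExact) (x : gSec q S.X₂) :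
    gsmap q S.g x = 0 ↔ ∃ y : gSec q S.X₁, gsmap q S.f y = x := by
  constructor
  · exact fun hx => Models.BTor.exact_sections hS (U := q ⁻¹ᵁ ⊤) x hx
  · rintro ⟨y, rfl⟩
    rw [← gsmap_comp, S.zero]
    rfl

variable [QuasiCompact q] [QuasiSeparated q] [HasInjectiveResolutions Y.Modules]

/-- The sections of `R¹q_* S.X₁` as a quotient of the sections of `S.X₃`. -/
theorem exists_presentation {S : ShortComplex Y.Modules} (hS : S.ShortExact) (h1 : Coh.IsQCoh S.X₁)
    (h2 : Coh.IsQCoh S.X₂) (h3 : Coh.IsQCoh S.X₃) (hz : IsZero ((Coh.Rpush q 1).obj S.X₂)) [IsAffine Z] :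
    ∃ π : gSec q S.X₃ →ₗ[Γ(Z, ⊤)] Γ((Coh.Rpush q 1).obj S.X₁, ⊤), Function.Surjective π ∧
      ∀ x, π x = 0 ↔ ∃ y : gSec q S.X₂, gsmap q S.g y = x := by
  let F := Scheme.Modules.pushforward q
  let Δ : RDer.DerivedLES F := K887.LES.derivedLES F
  let r := F.toRightDerivedZero
  let δ : (F.rightDerived 0).obj S.X₃ ⟶ (F.rightDerived 1).obj S.X₁ := Δ.δ S hS 0 1 rfl
  have hd : Epi δ := (Δ.exact₁ S hS 0 1 rfl).epi_f (hz.eq_of_tgt _ _)
  have hw : (F.rightDerived 0).map S.g ≫ δ = 0 := Δ.comp_δ S hS 0 1 rfl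
  have w : F.map S.g ≫ r.app S.X₃ ≫ δ = 0 := by
    rw [← Category.assoc, r.naturality, Category.assoc, hw, comp_zero]
  let A : ShortComplex Z.Modules := ShortComplex.mk (F.map S.g) (r.app S.X₃ ≫ δ) w
  let B : ShortComplex Z.Modules := ShortComplex.mk ((F.rightDerived 0).map S.g) δ hw
  let e : A ≅ B := ShortComplex.isoMk (asIso (r.app S.X₂)) (asIso (r.app S.X₃)) (Iso.refl _)
    (r.naturality S.g).symm (Category.comp_id _).symm
  have hex : A.Exact := (ShortComplex.exact_iff_of_iso e).2 (Δ.exact₃ S hS 0 1 rfl)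
  have q1 : Coh.IsQCoh (F.obj S.X₃) := Ega1.QcqsPush.isQCoh_pushforward q _ h3
  have q2 : Coh.IsQCoh (F.obj S.X₂) := Ega1.QcqsPush.isQCoh_pushforward q _ h2
  have q3 : Coh.IsQCoh ((Coh.Rpush q 1).obj S.X₁) := CohqA.RelCoh.isQCoh_Rpush q _ h1 1
  have he : Epi (r.app S.X₃ ≫ δ) := inferInstance
  refine ⟨{ toFun := (r.app S.X₃ ≫ δ).app ⊤
            map_add' := map_add _
            map_smul' := fun _ _ => Scheme.Modules.Hom.app_smul _ _ _ },
    FormalB.FormalLoc.app_surjective_of_epi (r.app S.X₃ ≫ δ) q1 q3 (isAffineOpen_top Z), fun x => ⟨fun hx => ?_, ?_⟩⟩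
  · exact FormalB.TrSys.exists_of_exact q2 q1 q3 _ _ w hex (isAffineOpen_top Z) x hx
  · rintro ⟨y, rfl⟩
    have h4 : (F.map S.g ≫ r.app S.X₃ ≫ δ).app ⊤ y = 0 := by
      rw [w]
      rfl
    exact h4

end Sections

section Van

open Groth.Agent.Ega3B K55 K55.Pack K54.PushSec K54.PushH1

variable {Y Z : Scheme.{u}} {q : Y ⟶ Z} [IsProper q] [LocallyOfFinitePresentation q] {G : Y.Modules}
  (hfp : CohB1.IsFP G) (hfl : FlatMod.IsFlatOver q G) (h1 : GeomH1 q G)

include hfp hfl h1 in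
/-- `H¹` of the fibres vanishes if `H¹` of the geometric fibres does. -/
theorem subsingleton_fiberH_of_geom (z : Z) : Subsingleton (CohIII.fiberH q G z 1) := by
  obtain ⟨V, hV, hz, -⟩ := exists_isAffineOpen_mem_and_subset (X := Z) (x := z) (U := ⊤) trivial
  obtain ⟨K, hK⟩ := exists_compData q G hfp hfl hV
  let iO : (q ⁻¹ᵁ V).toScheme.Over (Spec (CommRingCat.of Γ(Z, V))) := ⟨PackageAsm.strMap q hV⟩
  have h2 := K311.PushFree.subsingleton_HB h1 hV K hK (hV.primeIdealOf ⟨z, hz⟩)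
  have hF := Models2.FPCoh.isQCoh_of_isFP hfp
  obtain ⟨e, -⟩ := K54.FibreCx.fibreSec q G hF hV ⟨z, hz⟩ 1
  obtain ⟨g, q', σ, -, H, -⟩ := EtPoint.exists_square q hV ⟨z, hz⟩
  obtain ⟨e', -⟩ := FibreCmp.exists_cmp g q' H (G.restrict (q ⁻¹ᵁ V).ι)
    (Groth.Agent.CohqB.LocalQC.isQCoh_restrict (q ⁻¹ᵁ V).ι hF) 1
  obtain ⟨θ₀, hθ⟩ := hK 1
  obtain ⟨θ, -, -⟩ := hθ.bc (hV.primeIdealOf ⟨z, hz⟩).asIdeal.ResidueField _ g q' H
  exact ((e.trans e'.symm).trans θ).toEquiv.subsingleton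

include hfp hfl h1 in
theorem isZero_R1 [HasInjectiveResolutions Y.Modules] : IsZero ((Coh.Rpush q 1).obj G) :=
  have : Coh.IsQCoh G := Models2.FPCoh.isQCoh_of_isFP hfp
  S15985.result q G hfp hfl 1 fun z => subsingleton_fiberH_of_geom hfp hfl h1 z

end Van

section Geom

theorem isQCoh_tw {E : (PicF.XT (st k X) T).Modules} (hE : FlatMod.IsFinLocFree E) {Q : X.Modules}
    (hQ : CohB1.IsFP Q) : Coh.IsQCoh (Tw E Q) := Models2.FPCoh.isQCoh_of_isFP (isFP_tw hE hQ)

/-- `H¹(X_Ω, E_Ω ⊗ L) = 0` at all geometric points of `T`. -/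
def GeomTw (E : (PicF.XT (st k X) T).Modules) (L : X.Modules) : Prop :=
  ∀ (Ω : Type u) [Field Ω] [IsAlgClosed Ω] (s : Spec (CommRingCat.of Ω) ⟶ B0 k) (g : tpt s ⟶ T),
    Subsingleton (Coh.HH _ (Tw (pl k X g E) L) 1)

/-- `E ≅ E'` implies `E ⊗ L ≅ E' ⊗ L`. -/
noncomputable def lmapIso {E E' : (PicF.XT (st k X) T).Modules} (e : E ≅ E') (L : X.Modules) :
    Tw E L ≅ Tw E' L where
  hom := lmap e.hom L
  inv := lmap e.inv L
  hom_inv_id := by rw [← PullP.gl_comp, e.hom_inv_id, PullP.gl_id]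
  inv_hom_id := by rw [← PullP.gl_comp, e.inv_hom_id, PullP.gl_id]

theorem GeomTw.iso {E E' : (PicF.XT (st k X) T).Modules} {L : X.Modules} (h : GeomTw E L) (e : E ≅ E') :
    GeomTw E' L := fun Ω _ _ s g =>
  subsingleton_HH_of_iso (lmapIso (PullP.pmIso (isPB_pl g) e) L) (h Ω s g)

theorem GeomTw.pull {E : (PicF.XT (st k X) T).Modules} {L : X.Modules} (h : GeomTw E L) (g : T' ⟶ T) :
    GeomTw (pl k X g E) L := fun Ω _ _ s g' =>
  subsingleton_HH_of_iso (lmapIso (PlComp g g' E).symm L) (h Ω s (g' ≫ g))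

theorem GeomTw.geomH1 {E : (PicF.XT (st k X) T).Modules} {L : X.Modules} (h : GeomTw E L)
    (hE : FlatMod.IsFinLocFree E) (hL : CohB1.IsFP L) : GeomH1 (PicF.XTproj (st k X) T) (Tw E L) :=
  geomH1_of_fam (isQCoh_tw hE hL) fun Ω _ _ s g => subsingleton_HH_of_iso (TwPl g E L).symm (h Ω s g)

variable [IsProper (st k X)] (hdim : topologicalKrullDim X ≤ 1)

include hdim in
theorem subsingleton_HH_tpt {Ω : Type u} [Field Ω] (s : Spec (CommRingCat.of Ω) ⟶ B0 k)
    (G : (PicF.XT (st k X) (tpt s)).Modules) (i : ℕ) (hi : 1 < i) : Subsingleton (Coh.HH _ G i) := by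
  have h : IsPullback (pullback.fst (st k X) s) (pullback.snd (st k X) s) (st k X) s :=
    IsPullback.of_hasPullback _ _
  let iO : (PicF.XT (st k X) (tpt s)).Over (Spec (CommRingCat.of Ω)) := ⟨PicF.XTproj (st k X) (tpt s)⟩
  have : IsProper (PicF.XT (st k X) (tpt s) ↘ Spec (CommRingCat.of Ω)) :=
    MorphismProperty.of_isPullback h (inferInstanceAs (IsProper (st k X)))
  have := K703.Basic.isNoetherian Ω (PicF.XT (st k X) (tpt s))
  have hd : topologicalKrullDim (PicF.XT (st k X) (tpt s)) ≤ 1 :=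
    (K995.GenusField.dim_eq_of_isPullback (k := k) (k' := Ω) h).le.trans hdim
  exact Fga.EulerLEAdd.subsingleton_HH _ 1 hd _ i hi

include hdim in
theorem h1_quot {Ω : Type u} [Field Ω] (s : Spec (CommRingCat.of Ω) ⟶ B0 k)
    {E : (PicF.XT (st k X) (tpt s)).Modules} (hE : FlatMod.IsFinLocFree E) {S : ShortComplex X.Modules}
    (hS : S.ShortExact) (h : Subsingleton (Coh.HH _ (Tw E S.X₂) 1)) : Subsingleton (Coh.HH _ (Tw E S.X₃) 1) := by
  have hT := shortExact_twS hE hS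
  have h2 : Subsingleton (Coh.HH _ (twS E S).X₁ 2) := subsingleton_HH_tpt hdim s _ 2 (by norm_num)
  have h3 : Subsingleton (Coh.HH _ (twS E S).X₂ 1) := h
  have key : ∀ x : Coh.HH _ (twS E S).X₃ 1, x = 0 := fun x => by
    obtain ⟨y, hy⟩ := CohqB.HSeqMod.exact₃ hT 1 x (Subsingleton.elim _ _)
    rw [← hy, Subsingleton.elim y 0, map_zero]
  exact ⟨fun a b => (key a).trans (key b).symm⟩

include hdim in
theorem GeomTw.quot {E : (PicF.XT (st k X) T).Modules} (hE : FlatMod.IsFinLocFree E) {S : ShortComplex X.Modules}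
    (hS : S.ShortExact) (h : GeomTw E S.X₂) : GeomTw E S.X₃ := fun Ω _ _ s g =>
  h1_quot hdim s (PerfC.PullRestrict.isFinLocFree_pullback _ hE) hS (h Ω s g)

end Geom

end K54.TwExact
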