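import Groth.Agent.BunMod.K54.DetPres
import Groth.Agent.S0002
import Groth.Agent.VarietyA.EulerAdd

/-!
# Existence of determinantal presentations

* `GeomChi E N`: `χ(X_Ω, E_Ω ⊗ N) = 0` at all geometric points;
* `finrank_of_coords`: `h⁰` from a universal basis;
* `exists_detPres`: `DetPres` exists near every point of `T` and after every base change into the neighbourhood, if
  `GeomTw E S.X₂` and `GeomChi E S.X₁`.
-/

set_option autoImplicit false
universe u

open CategoryTheory CategoryTheory.Limits AlgebraicGeometry TensorProduct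

namespace K54.DP

open Groth.Agent K140.BM Groth.Agent.Fga.RigGrp K54.Theta K54.GenPull K54.FamSec K54.UB K54.TwExact K311.PushFree

variable {k : Type u} [Field k] {X : Scheme.{u}} [X.Over (Spec (CommRingCat.of k))] {T T' T'' : Over (B0 k)}

theorem appLE_topIso {Y : Scheme.{u}} (U : Y.Opens) (h) : U.ι.appLE U ⊤ h ≫ U.topIso.hom = 𝟙 _ := by
  rw [← Iso.eq_comp_inv, Category.id_comp]
  simp only [Scheme.Hom.appLE, Scheme.Opens.ι_app, Scheme.Opens.topIso_inv]
  have : ((U : Scheme.{u})).presheaf.map (homOfLE h).op = Y.presheaf.map (homOfLE (U.ι.image_mono h)).op := rfl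
  rw [this]
  exact (Y.presheaf.map_comp _ _).symm.trans (congrArg Y.presheaf.map (Subsingleton.elim _ _))

section Geometric

variable {Ω : Type u} [Field Ω] (s : Spec (CommRingCat.of Ω) ⟶ B0 k)

/-- `X_Ω` over `Ω`. -/
noncomputable abbrev ovr (X : Scheme.{u}) [X.Over (Spec (CommRingCat.of k))] {Ω : Type u} [Field Ω]
    (s : Spec (CommRingCat.of Ω) ⟶ B0 k) : (PicF.XT (st k X) (tpt s)).Over (Spec (CommRingCat.of Ω)) :=
  ⟨PicF.XTproj (st k X) (tpt s)⟩

theorem finrank_of_coords {G : (PicF.XT (st k X) (tpt s)).Modules} {n : ℕ} {e : Fin n → Sec G}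
    (he : ∀ x, ∃! c : Fin n → Γ((tpt s).left, ⊤), x = ∑ i, c i • e i) :
    letI := ovr X s
    Module.finrank Ω (Coh.HH (PicF.XT (st k X) (tpt s)) G 0) = n := by
  letI := ovr X s
  let σ : Ω ≃+* Γ((tpt s).left, ⊤) := (Scheme.ΓSpecIso (CommRingCat.of Ω)).symm.commRingCatIsoToRingEquiv
  let φ : Coh.HH (PicF.XT (st k X) (tpt s)) G 0 ≃+ Sec G := CurvesB.HZero.equivAdd G
  have hφ : ∀ (t : Ω) (x : Coh.HH (PicF.XT (st k X) (tpt s)) G 0), φ (t • x) = σ t • φ x :=
    fun t x => CurvesB.HZero.equivAdd_smul_over G t x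
  choose c hc hu using he
  have hc1 : ∀ (x y : Sec G), c (x + y) = c x + c y := fun x y => (hu _ _ (by
    simp only [Pi.add_apply, add_smul, Finset.sum_add_distrib]
    rw [← hc x, ← hc y])).symm
  have hc2 : ∀ (a : Γ((tpt s).left, ⊤)) (x : Sec G), c (a • x) = a • c x := fun a x => (hu _ _ (by
    simp only [Pi.smul_apply, smul_eq_mul, mul_smul, ← Finset.smul_sum]
    rw [← hc x])).symm
  let ψ : Coh.HH (PicF.XT (st k X) (tpt s)) G 0 ≃ₗ[Ω] (Fin n → Ω) :=
    { toFun := fun x i => σ.symm (c (φ x) i)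
      invFun := fun a => φ.symm (∑ i, σ (a i) • e i)
      map_add' := fun x y => by
        funext i
        simp only [map_add, hc1, Pi.add_apply]
      map_smul' := fun t x => by
        funext i
        simp only [hφ, hc2, Pi.smul_apply, smul_eq_mul, map_mul, RingEquiv.symm_apply_apply, RingHom.id_apply]
      left_inv := fun x => by
        simp only [RingEquiv.apply_symm_apply]
        rw [← hc (φ x), AddEquiv.symm_apply_apply]
      right_inv := fun a => by
        funext i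
        simp only [AddEquiv.apply_symm_apply]
        rw [← hu _ (fun i => σ (a i)) rfl, RingEquiv.symm_apply_apply] }
  rw [ψ.finrank_eq, Module.finrank_fin_fun]

variable [IsProper (st k X)] (hdim : topologicalKrullDim X ≤ 1) {S : ShortComplex X.Modules} (hS : S.ShortExact)
  (h1 : FlatMod.IsFinLocFree S.X₁) (h2 : FlatMod.IsFinLocFree S.X₂) (h3 : CohB1.IsFP S.X₃)

include hdim hS h1 h2 h3 in
/-- The ranks agree if `χ(E ⊗ N) = 0` and `H¹(E ⊗ L) = 0`. -/
theorem card_eq {E : (PicF.XT (st k X) (tpt s)).Modules} (hE : FlatMod.IsFinLocFree E)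
    (hH : Subsingleton (Coh.HH _ (Tw E S.X₂) 1))
    (hχ : letI := ovr X s; Curv2.euler Ω (PicF.XT (st k X) (tpt s)) (Tw E S.X₁) = 0) {n m : ℕ}
    {e : Fin n → Sec (Tw E S.X₂)} {f : Fin m → Sec (Tw E S.X₃)}
    (he : ∀ x, ∃! c : Fin n → Γ((tpt s).left, ⊤), x = ∑ i, c i • e i)
    (hf : ∀ x, ∃! c : Fin m → Γ((tpt s).left, ⊤), x = ∑ i, c i • f i) : n = m := by
  letI := ovr X s
  have h : IsPullback (pullback.fst (st k X) s) (pullback.snd (st k X) s) (st k X) s :=
    IsPullback.of_hasPullback _ _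
  have : IsProper (PicF.XT (st k X) (tpt s) ↘ Spec (CommRingCat.of Ω)) :=
    MorphismProperty.of_isPullback h (inferInstanceAs (IsProper (st k X)))
  have := K703.Basic.isNoetherian Ω (PicF.XT (st k X) (tpt s))
  have hd : topologicalKrullDim (PicF.XT (st k X) (tpt s)) ≤ 1 :=
    (K995.GenusField.dim_eq_of_isPullback (k := k) (k' := Ω) h).le.trans hdim
  have v : ∀ (G : (PicF.XT (st k X) (tpt s)).Modules) (i : ℕ), 2 ≤ i → Subsingleton (Coh.HH _ G i) := fun G i hi =>
    Fga.EulerLEAdd.subsingleton_HH _ 1 hd _ i hi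
  have fin : ∀ (G : (PicF.XT (st k X) (tpt s)).Modules), CohB1.IsFP G → ∀ i,
      Module.Finite Ω (Coh.HH (PicF.XT (st k X) (tpt s)) G i) := fun G hG i =>
    S0002.result Ω _ G (Models2.FPCoh.isCoh_of_isFP hG) i
  have hadd := VarietyA.EulerAdd.euler_additive_of Ω (twS E S) (shortExact_twS hE hS)
    (fin _ (isFP_tw hE (Desc.FinLocFreeSections.isFP_of_isFinLocFree h1)))
    (fin _ (isFP_tw hE (Desc.FinLocFreeSections.isFP_of_isFinLocFree h2))) (fin _ (isFP_tw hE h3)) 2
    (v _) (v _) (v _)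
  have hH3 := h1_quot hdim s hE hS hH
  have e2 : Curv2.euler Ω (PicF.XT (st k X) (tpt s)) (Tw E S.X₂) = n := by
    rw [CurvesB.CurveRR.euler_eq Ω _ hd, finrank_of_coords s he, Module.finrank_zero_of_subsingleton]
    simp
  have e3 : Curv2.euler Ω (PicF.XT (st k X) (tpt s)) (Tw E S.X₃) = m := by
    rw [CurvesB.CurveRR.euler_eq Ω _ hd, finrank_of_coords s hf, Module.finrank_zero_of_subsingleton]
    simp
  have hadd' : Curv2.euler Ω (PicF.XT (st k X) (tpt s)) (Tw E S.X₂) =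
      Curv2.euler Ω (PicF.XT (st k X) (tpt s)) (Tw E S.X₁) +
        Curv2.euler Ω (PicF.XT (st k X) (tpt s)) (Tw E S.X₃) := hadd
  rw [e2, e3, hχ, zero_add] at hadd'
  exact_mod_cast hadd'

end Geometric

/-- `χ(X_Ω, E_Ω ⊗ N) = 0` at all geometric points of `T`. -/
def GeomChi (E : (PicF.XT (st k X) T).Modules) (N : X.Modules) : Prop :=
  ∀ (Ω : Type u) [Field Ω] [IsAlgClosed Ω] (s : Spec (CommRingCat.of Ω) ⟶ B0 k) (g : tpt s ⟶ T),
    letI := ovr X s
    Curv2.euler Ω (PicF.XT (st k X) (tpt s)) (Tw (pl k X g E) N) = 0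

theorem GeomChi.iso {E E' : (PicF.XT (st k X) T).Modules} {N : X.Modules} (h : GeomChi E N) (e : E ≅ E') :
    GeomChi E' N := fun Ω _ _ s g => by
  let := ovr X s
  exact (VarietyA.EulerAdd.euler_congr Ω (lmapIso (PullP.pmIso (isPB_pl g) e) N)).symm.trans (h Ω s g)

theorem GeomChi.pull {E : (PicF.XT (st k X) T).Modules} {N : X.Modules} (h : GeomChi E N) (g : T' ⟶ T) :
    GeomChi (pl k X g E) N := fun Ω _ _ s g' => by
  let := ovr X s
  exact (VarietyA.EulerAdd.euler_congr Ω (lmapIso (PlComp g g' E) N)).trans (h Ω s (g' ≫ g))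

/-- The matrix of a determinantal presentation. -/
theorem nonempty_detPres {S : ShortComplex X.Modules} {E : (PicF.XT (st k X) T).Modules} {n : ℕ}
    {e : Fin n → Sec (Tw E S.X₂)} {f : Fin n → Sec (Tw E S.X₃)} (ube : IsUB (Tw E S.X₂) e)
    (ubf : IsUB (Tw E S.X₃) f) : Nonempty (DetPres S T E) := by
  choose d hd _ using fun i => ubf.self (smap (rmap E S.g) (e i))
  exact ⟨{ n := n, e := e, f := f, ube := ube, ubf := ubf, d := Matrix.of fun j i => d i j, hd := hd }⟩

/-- A geometric point over a given point. -/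
theorem exists_geom (t : T.left) : ∃ (Ω : Type u) (_ : Field Ω) (_ : IsAlgClosed Ω)
    (s : Spec (CommRingCat.of Ω) ⟶ B0 k) (g : tpt s ⟶ T), ∀ x, g.left x = t := by
  let κ := T.left.residueField t
  let τ : Spec (CommRingCat.of (AlgebraicClosure κ)) ⟶ T.left :=
    Spec.map (CommRingCat.ofHom (algebraMap κ (AlgebraicClosure κ))) ≫ T.left.fromSpecResidueField t
  refine ⟨AlgebraicClosure κ, inferInstance, inferInstance, τ ≫ T.hom, Over.homMk τ rfl, fun x => ?_⟩
  change (T.left.fromSpecResidueField t) ((Spec.map (CommRingCat.ofHom (algebraMap κ (AlgebraicClosure κ)))) x) = t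
  exact T.left.fromSpecResidueField_apply t _

variable [IsProper (st k X)] [LocallyOfFinitePresentation (st k X)] (hdim : topologicalKrullDim X ≤ 1)
  {S : ShortComplex X.Modules} (hS : S.ShortExact) (h1 : FlatMod.IsFinLocFree S.X₁)
  (h2 : FlatMod.IsFinLocFree S.X₂) (h3 : CohB1.IsFP S.X₃)

include hdim hS h1 h2 h3 in
/-- **Determinantal presentations exist near every point.** -/
theorem exists_detPres {E : (PicF.XT (st k X) T).Modules} (hE : FlatMod.IsFinLocFree E) (hv : GeomTw E S.X₂)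
    (hχ : GeomChi E S.X₁) (t : T.left) : ∃ W : T.left.Opens, t ∈ W ∧ ∀ ⦃T' : Over (B0 k)⦄ (g : T' ⟶ T),
      (∀ x, g.left x ∈ W) → Nonempty (DetPres S T' (pl k X g E)) := by
  have hf2 := Desc.FinLocFreeSections.isFP_of_isFinLocFree h2
  obtain ⟨W₁, n, ht1, H1⟩ := exists_ub (isFP_tw hE hf2) (isFlatOver_tw hE S.X₂) (hv.geomH1 hE hf2) t
  obtain ⟨W₂, m, ht2, H2⟩ := exists_ub (isFP_tw hE h3) (isFlatOver_tw hE S.X₃)
    ((hv.quot hdim hE hS).geomH1 hE h3) t
  obtain ⟨Ω, i1, i2, s, g, hg⟩ := exists_geom t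
  obtain ⟨e, he⟩ := H1 g fun x => (hg x).symm ▸ ht1
  obtain ⟨f, hf⟩ := H2 g fun x => (hg x).symm ▸ ht2
  have hE' : FlatMod.IsFinLocFree (pl k X g E) := PerfC.PullRestrict.isFinLocFree_pullback _ hE
  have hnm : n = m := card_eq s hdim hS h1 h2 h3 hE' (hv Ω s g) (hχ Ω s g) (he.iso (TwPl g E S.X₂)).self
    (hf.iso (TwPl g E S.X₃)).self
  subst hnm
  refine ⟨W₁ ⊓ W₂, ⟨ht1, ht2⟩, fun T' g hg => ?_⟩
  obtain ⟨e, he⟩ := H1 g fun x => (hg x).1
  obtain ⟨f, hf⟩ := H2 g fun x => (hg x).2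
  exact nonempty_detPres (he.iso (TwPl g E S.X₂)) (hf.iso (TwPl g E S.X₃))

include hdim hS h1 h2 h3 in
/-- Determinantal presentations on affine opens, with the theta ideal. -/
theorem exists_local {E : (PicF.XT (st k X) T).Modules} (hE : FlatMod.IsFinLocFree E) (hv : GeomTw E S.X₂)
    (hχ : GeomChi E S.X₁) (t : T.left) : ∃ (U : T.left.Opens) (_ : IsAffineOpen U) (_ : IsAffine (opn T U).left)
      (D : DetPres S (opn T U) (pl k X (opi T U) E)), t ∈ U ∧
        (thetaIdeal k S.X₁ (opn T U) (pl k X (opi T U) E)).ideal ⟨⊤, isAffineOpen_top _⟩ = Ideal.span {D.d.det} := by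
  obtain ⟨W, htW, H⟩ := exists_detPres hdim hS h1 h2 h3 hE hv hχ t
  obtain ⟨U, hU, htU, hUW⟩ := exists_isAffineOpen_mem_and_subset (X := T.left) (x := t) (U := W) htW
  obtain ⟨D⟩ := H (opi T U) fun x => hUW x.2
  have hA : IsAffine (opn T U).left := hU
  exact ⟨U, hU, hA, D, htU, D.ideal hdim hS h1 h2 h3 (PerfC.PullRestrict.isFinLocFree_pullback _ hE)
    (hv.pull (opi T U))⟩

include hdim h1 in
omit [LocallyOfFinitePresentation (st k X)] in
/-- The theta ideal over an affine open from the theta ideal of the restriction. -/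
theorem ideal_of_restrict {E : (PicF.XT (st k X) T).Modules} (hE : FlatMod.IsFinLocFree E) {U : T.left.Opens}
    (hU : IsAffineOpen U) (hA : IsAffine (opn T U).left) {a : Γ((opn T U).left, ⊤)}
    (h : (thetaIdeal k S.X₁ (opn T U) (pl k X (opi T U) E)).ideal ⟨⊤, isAffineOpen_top _⟩ = Ideal.span {a}) :
    (thetaIdeal k S.X₁ T E).ideal ⟨U, hU⟩ = Ideal.span {U.topIso.hom a} := by
  rw [← thetaIdeal_pl hdim h1 (opi T U) hE, Divis.IdealComap.ideal_comap _ (opi T U).left ⟨U, hU⟩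
    ⟨⊤, isAffineOpen_top _⟩ (fun x _ => x.2)] at h
  have e1 : (opi T U).left.appLE U ⊤ (fun x _ => x.2) ≫ U.topIso.hom = 𝟙 _ := appLE_topIso U _
  have h4 := congrArg (Ideal.map U.topIso.hom.hom) h
  rw [Ideal.map_map, Ideal.map_span, Set.image_singleton] at h4
  have e2 : U.topIso.hom.hom.comp ((opi T U).left.appLE U ⊤ (fun x _ => x.2)).hom = RingHom.id _ :=
    congrArg CommRingCat.Hom.hom e1
  rw [e2, Ideal.map_id] at h4
  exact h4

end K54.DP
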