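import Groth.Agent.BunMod.K54.FamSec
import Groth.Agent.BunMod.K311.KVan
import Groth.Agent.FormalB.BCExact
import Groth.Agent.SDiv.K474.FittBlow2

/-!
# Universal bases of the sections of a family

`IsUB G e`: the sections `e i` of `G` on `X_T` pull back to a basis of the sections of `g^* G`, for every `g : T' ⟶ T`
(`T'` arbitrary).

* `IsUB.self`, `IsUB.basis`, `IsUB.pull`, `IsUB.iso`; for `G = E ⊗ L_T`: `IsUB.tw`, `IsUB.pullTw`, `IsUB.lmap`;
* `geomH1_of_fam`: `K311.PushFree.GeomH1` from the geometric points `g : tpt s ⟶ T`;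
* `exists_ub`: if `G` is of finite presentation and flat over `T`, and `H¹` of the geometric fibres vanishes, then there
  is a universal basis near every point of `T`;
* `isUB_of_basis`: over `T` affine every basis of `Γ(X_T, G)` is a universal basis; `isBC_bc`: `Bc g G` is a base change
  for `T`, `T'` affine.
-/

set_option autoImplicit false
universe u

open CategoryTheory CategoryTheory.Limits AlgebraicGeometry TensorProduct MonoidalCategory

namespace K54.UB

open Groth.Agent K140.BM Groth.Agent.Fga.RigGrp K54.Theta K54.GenPull K54.FamSec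

/-- Unique coordinates and linear equivalences. -/
theorem exu_iff {A M N : Type*} [CommRing A] [AddCommGroup M] [AddCommGroup N] [Module A M] [Module A N]
    (φ : M ≃ₗ[A] N) {n : ℕ} (m : Fin n → M) (x : M) :
    (∃! c : Fin n → A, φ x = ∑ i, c i • φ (m i)) ↔ ∃! c : Fin n → A, x = ∑ i, c i • m i := by
  refine existsUnique_congr fun c => ?_
  rw [← φ.injective.eq_iff, map_sum]
  simp only [map_smul]

variable {k : Type u} [Field k] {X : Scheme.{u}} [X.Over (Spec (CommRingCat.of k))] {T T' T'' : Over (B0 k)}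

/-- A universal basis of the sections of `G`. -/
def IsUB (G : (PicF.XT (st k X) T).Modules) {n : ℕ} (e : Fin n → Sec G) : Prop :=
  ∀ ⦃T' : Over (B0 k)⦄ (g : T' ⟶ T) (x : Sec (pl k X g G)),
    ∃! c : Fin n → Γ(T'.left, ⊤), x = ∑ i, c i • Bc g G (e i)

theorem bc_sum (g : T' ⟶ T) (G : (PicF.XT (st k X) T).Modules) {n : ℕ} (c : Fin n → Γ(T.left, ⊤)) (e : Fin n → Sec G) :
    Bc g G (∑ i, c i • e i) = ∑ i, g.left.appTop (c i) • Bc g G (e i) := by
  rw [map_sum]
  exact Finset.sum_congr rfl fun i _ => bc_smul g G (c i) (e i)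

theorem bcTw_sum (g : T' ⟶ T) (E : (PicF.XT (st k X) T).Modules) (L : X.Modules) {n : ℕ} (c : Fin n → Γ(T.left, ⊤))
    (e : Fin n → Sec (Tw E L)) :
    BcTw g E L (∑ i, c i • e i) = ∑ i, g.left.appTop (c i) • BcTw g E L (e i) := by
  rw [map_sum]
  exact Finset.sum_congr rfl fun i _ => bcTw_smul g E L (c i) (e i)

section

variable {G G' : (PicF.XT (st k X) T).Modules} {n : ℕ} {e : Fin n → Sec G}

theorem IsUB.self (h : IsUB G e) (x : Sec G) : ∃! c : Fin n → Γ(T.left, ⊤), x = ∑ i, c i • e i := by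
  have h1 := (exu_iff (sIso (PlId G)) (fun i => Bc (𝟙 T) G (e i)) (Bc (𝟙 T) G x)).2 (h (𝟙 T) (Bc (𝟙 T) G x))
  simp only [gsIso_apply, bc_id] at h1
  exact h1

/-- The basis. -/
noncomputable def IsUB.basis (h : IsUB G e) : Module.Basis (Fin n) Γ(T.left, ⊤) (Sec G) :=
  .ofEquivFun (LinearEquiv.ofBijective (Fintype.linearCombination Γ(T.left, ⊤) e) (by
    rw [Function.bijective_iff_existsUnique]
    intro x
    obtain ⟨c, hc, hu⟩ := h.self x
    exact ⟨c, hc.symm, fun c' hc' => hu c' hc'.symm⟩)).symm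

theorem IsUB.basis_apply (h : IsUB G e) (i : Fin n) : h.basis i = e i := by
  rw [IsUB.basis, Module.Basis.coe_ofEquivFun, LinearEquiv.symm_symm]
  change (Fintype.linearCombination Γ(T.left, ⊤) e) (Pi.single i 1) = _
  rw [Fintype.linearCombination_apply_single, one_smul]

theorem IsUB.pull (h : IsUB G e) (g : T' ⟶ T) : IsUB (pl k X g G) (fun i => Bc g G (e i)) := by
  intro T'' g' x
  refine (exu_iff (sIso (PlComp g g' G)) _ x).1 ?_
  simp only [gsIso_apply, bc_comp]
  exact h (g' ≫ g) _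

theorem IsUB.iso (h : IsUB G e) (a : G ≅ G') : IsUB G' (fun i => smap a.hom (e i)) := by
  intro T' g x
  refine (exu_iff (sIso (PullP.pmIso (isPB_pl g) a)).symm _ x).1 ?_
  have h1 : ∀ i, (sIso (PullP.pmIso (isPB_pl g) a)).symm (Bc g G' (smap a.hom (e i))) = Bc g G (e i) := by
    intro i
    rw [LinearEquiv.symm_apply_eq, gsIso_apply, bc_smap, PullP.pmIso_hom]
  simp only [h1]
  exact h g _

end

section Twist

variable {E E' : (PicF.XT (st k X) T).Modules} {L : X.Modules} {n : ℕ} {e : Fin n → Sec (Tw E L)}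

theorem IsUB.tw (h : IsUB (Tw E L) e) (g : T' ⟶ T) (x : Sec (Tw (pl k X g E) L)) :
    ∃! c : Fin n → Γ(T'.left, ⊤), x = ∑ i, c i • BcTw g E L (e i) := by
  refine (exu_iff (sIso (TwPl g E L)).symm _ x).1 ?_
  have h1 : ∀ i, (sIso (TwPl g E L)).symm (BcTw g E L (e i)) = Bc g (Tw E L) (e i) := by
    intro i
    rw [LinearEquiv.symm_apply_eq, gsIso_apply, bcTw_apply]
  simp only [h1]
  exact h g _

theorem IsUB.pullTw (h : IsUB (Tw E L) e) (g : T' ⟶ T) :
    IsUB (Tw (pl k X g E) L) (fun i => BcTw g E L (e i)) := by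
  have h1 := (h.pull g).iso (TwPl g E L)
  simp only [← bcTw_apply] at h1
  exact h1

end Twist

section Exist

open K311.PushFree Groth.Agent.CohqA.PullbackAffine Groth.Agent.CohqA.BaseChangeMod
  Groth.Agent.CohqA.AffineBaseChange Groth.Agent.CohqA.PullbackSections Groth.Agent.Ega2.BasSec

/-- `H¹` of the geometric fibres from the geometric points `tpt s ⟶ T`. -/
theorem geomH1_of_fam {G : (PicF.XT (st k X) T).Modules} (hG : Coh.IsQCoh G)
    (h : ∀ (Ω : Type u) [Field Ω] [IsAlgClosed Ω] (s : Spec (CommRingCat.of Ω) ⟶ B0 k) (g : tpt s ⟶ T),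
      Subsingleton (Coh.HH _ (pl k X g G) 1)) : GeomH1 (PicF.XTproj (st k X) T) G := by
  intro Ω _ _ t Y' f q H
  let s : Spec (CommRingCat.of Ω) ⟶ B0 k := t ≫ T.hom
  let g : tpt s ⟶ T := Over.homMk t rfl
  have H' : IsPullback (PicF.XTmap (st k X) g) (PicF.XTproj (st k X) (tpt s)) (PicF.XTproj (st k X) T) t :=
    isPullback_XTmap g
  let ε : Y' ≅ PicF.XT (st k X) (tpt s) := H.isoIsPullback _ _ H'
  have h1 : ε.hom ≫ PicF.XTmap (st k X) g = f := H.isoIsPullback_hom_fst _ _ H'
  have h3 := K311.KVan.subsingleton_HH_pullback ε.hom _ (FormalB.PullCoh.isQuasicoherent_pullback _ _ hG) 1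
    (h Ω s g)
  exact subsingleton_HH_of_iso ((Scheme.Modules.pullbackComp ε.hom (PicF.XTmap (st k X) g)).app _ ≪≫
    (Scheme.Modules.pullbackCongr h1).app _) h3

theorem bc_eq_gbc (g : T' ⟶ T) (G : (PicF.XT (st k X) T).Modules) (x : Sec G) :
    Bc g G x = gbc (isPullback_XTmap g).w G x := rfl

theorem bc_eq_secMap (g : T' ⟶ T) (G : (PicF.XT (st k X) T).Modules) (x : Sec G) :
    Bc g G x = secMap g.left (pushSquare (PicF.XTproj (st k X) T) g.left
      (PicF.XTmap (st k X) g) (PicF.XTproj (st k X) T') (isPullback_XTmap g).w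
        (pbUnit (PicF.XTmap (st k X) g) G)) ⊤ ⊤ le_top x :=
  (bc_eq_gbc g G x).trans (gbc_eq_secMap (isPullback_XTmap g).w G x)

variable [IsProper (st k X)] [LocallyOfFinitePresentation (st k X)]

instance isProper_XTproj (T : Over (B0 k)) : IsProper (PicF.XTproj (st k X) T) :=
  inferInstanceAs (IsProper (pullback.snd (st k X) T.hom))

instance lfp_XTproj (T : Over (B0 k)) : LocallyOfFinitePresentation (PicF.XTproj (st k X) T) :=
  inferInstanceAs (LocallyOfFinitePresentation (pullback.snd (st k X) T.hom))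

variable {G : (PicF.XT (st k X) T).Modules} (hfp : CohB1.IsFP G)
  (hfl : FlatMod.IsFlatOver (PicF.XTproj (st k X) T) G) (h1 : GeomH1 (PicF.XTproj (st k X) T) G)

include hfp hfl h1 in
/-- Bases over all opens of `T` are universal bases. -/
theorem isUB_of_isBas {n : ℕ} {e : Fin n → Sec G}
    (hb : IsBas (M := (Scheme.Modules.pushforward (PicF.XTproj (st k X) T)).obj G) (U := ⊤) e) : IsUB G e := by
  intro T' g x
  have h2 := (K311.PushFree.isBas_pull hfp hfl h1 (isPullback_XTmap g) (U' := ⊤) le_top hb).bijective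
  rw [Function.bijective_iff_existsUnique] at h2
  obtain ⟨c, hc, hu⟩ := h2 x
  refine ⟨c, ?_, fun c' hc' => hu c' ?_⟩
  · simp only [bc_eq_secMap]
    exact hc.symm
  · simp only [bc_eq_secMap] at hc'
    exact hc'.symm

include hfp hfl h1 in
/-- Over an affine base every basis of the sections is universal. -/
theorem isUB_of_basis [IsAffine T.left] {n : ℕ} (b : Module.Basis (Fin n) Γ(T.left, ⊤) (Sec G)) : IsUB G b :=
  isUB_of_isBas hfp hfl h1 (isBas_of_bijective (isQCoh_push hfp) (isAffineOpen_top T.left)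
    (K311.PushFree.bijective_comb_of_basis b fun _ => rfl))

include hfp hfl h1 in
/-- **Universal bases exist near every point**, after every base change into the neighbourhood. -/
theorem exists_ub (t : T.left) : ∃ (W : T.left.Opens) (n : ℕ), t ∈ W ∧ ∀ ⦃T' : Over (B0 k)⦄ (g : T' ⟶ T),
    (∀ x, g.left x ∈ W) → ∃ e : Fin n → Sec (pl k X g G), IsUB (pl k X g G) e := by
  obtain ⟨W, n, hxW, hW⟩ := isFinLocFree_push hfp hfl h1 t
  obtain ⟨w, hw⟩ := (nonempty_restrict_iso_freeMod_iff _ n W).1 hW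
  refine ⟨W, n, hxW, fun T' g hg => ?_⟩
  have h2 := isBas_pull hfp hfl h1 (isPullback_XTmap g) (U' := ⊤) (fun x _ => hg x) hw
  exact ⟨_, isUB_of_isBas (SDiv.K474.FittBlow2.isFP_pullback _ hfp) (FormalB.BC.isFlatOver_pullback (isPullback_XTmap g) _ hfl)
    (h1.baseChange (isPullback_XTmap g)) h2⟩

/-- Pull-back of sections is a base change, for affine bases. -/
theorem isBC_bc [IsAffine T.left] [IsAffine T'.left] (hfp : CohB1.IsFP G)
    (hfl : FlatMod.IsFlatOver (PicF.XTproj (st k X) T) G) (h1 : GeomH1 (PicF.XTproj (st k X) T) G) (g : T' ⟶ T) :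
    IsBC g.left.appTop.hom (Bc g G) := by
  have h2 := isBC_sections hfp hfl h1 (isPullback_XTmap g) (isAffineOpen_top T.left) (isAffineOpen_top T'.left) le_top
  have e1 : g.left.appLE ⊤ ⊤ le_top = g.left.appTop := Scheme.Hom.appLE_eq_app _
  rw [e1] at h2
  convert h2 using 1
  exact AddMonoidHom.ext fun x => bc_eq_secMap g G x

end Exist

end K54.UB
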