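import Groth.Agent.BunMod.K54.Exists
import Groth.Agent.LoccohB.TopRepNat
import Groth.Agent.Fitt.K360.Fiber

/-!
# The support of the theta ideal

`mem_support_iff`: for `c : tpt s ⟶ T` (any field `Ω`) with `χ(X_Ω, c^*E ⊗ N) = 0`:
`c(p) ∈ supp thetaIdeal ↔ H⁰(X_Ω, c^*E ⊗ N) ≠ 0`; `mem_support_iff'`: without `χ = 0`, with `H¹` instead of `H⁰`.
-/

set_option autoImplicit false
universe u

open CategoryTheory CategoryTheory.Limits AlgebraicGeometry TensorProduct

namespace K54.Supp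

open Groth.Agent K140.BM Groth.Agent.Fga.RigGrp K54.Theta K54.GenPull K54.FamSec K54.UB K54.TwExact K54.DP
  K311.PushFree

theorem fitt_top_iff {R M : Type u} [CommRing R] [AddCommGroup M] [Module R M] [Module.Finite R M] :
    Fitt.ideal R M 0 = ⊤ ↔ Subsingleton M := by
  constructor
  · intro h
    have h1 : (1 : R) ∈ Module.annihilator R M := K360.FittFiber.ideal_zero_le_annihilator (h ▸ Submodule.mem_top)
    have key : ∀ m : M, m = 0 := fun m => by
      rw [← one_smul R m]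
      exact Module.mem_annihilator.1 h1 m
    exact ⟨fun a b => (key a).trans (key b).symm⟩
  · intro h
    exact K360.FittBasic.ideal_eq_top_of_card_le (fun i : Fin 0 => i.elim0)
      (eq_top_iff.2 fun m _ => (Subsingleton.elim 0 m) ▸ Submodule.zero_mem _) (le_of_eq (Fintype.card_fin 0))

theorem mem_support_iff_of_subsingleton {Y : Scheme.{u}} [IsAffine Y] [Subsingleton Y] (J : Y.IdealSheafData)
    (p : Y) : p ∈ J.support ↔ J.ideal ⟨⊤, isAffineOpen_top Y⟩ ≠ ⊤ := by
  have h1 : J.ideal ⟨⊤, isAffineOpen_top Y⟩ = ⊤ ↔ J = ⊤ := by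
    constructor
    · intro h
      exact Scheme.IdealSheafData.ext_of_isAffine h
    · rintro rfl
      rfl
  rw [Ne, h1, ← Scheme.IdealSheafData.support_eq_bot_iff]
  constructor
  · intro h h2
    rw [h2] at h
    exact h
  · intro h
    by_contra h2
    refine h ?_
    ext x
    rw [Subsingleton.elim x p]
    exact ⟨fun h3 => (h2 h3).elim, fun h3 => h3.elim⟩

variable {k : Type u} [Field k] {X : Scheme.{u}} [X.Over (Spec (CommRingCat.of k))] {T : Over (B0 k)}
  [IsProper (st k X)] (hdim : topologicalKrullDim X ≤ 1)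

include hdim in
/-- The support of the theta ideal in terms of `H¹`. -/
theorem mem_support_iff' {N : X.Modules} (hN : FlatMod.IsFinLocFree N) {E : (PicF.XT (st k X) T).Modules}
    (hE : FlatMod.IsFinLocFree E) {Ω : Type u} [Field Ω] (s : Spec (CommRingCat.of Ω) ⟶ B0 k) (c : tpt s ⟶ T)
    (p : (tpt s).left) : c.left p ∈ (thetaIdeal k N T E).support ↔
      ¬ Subsingleton (Coh.HH (PicF.XT (st k X) (tpt s)) (Tw (pl k X c E) N) 1) := by
  have hE' : FlatMod.IsFinLocFree (pl k X c E) := PerfC.PullRestrict.isFinLocFree_pullback _ hE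
  have hA : IsAffine (tpt s).left := inferInstanceAs (IsAffine (Spec (CommRingCat.of Ω)))
  have hsub : Subsingleton (tpt s).left := inferInstanceAs (Subsingleton (PrimeSpectrum Ω))
  have e1 : c.left p ∈ (thetaIdeal k N T E).support ↔ p ∈ (thetaIdeal k N (tpt s) (pl k X c E)).support := by
    rw [← thetaIdeal_pl hdim hN c hE, Scheme.IdealSheafData.support_comap]
    rfl
  have q1 : Coh.IsQCoh (Tw (pl k X c E) N) := isQCoh_tw hE' (Desc.FinLocFreeSections.isFP_of_isFinLocFree hN)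
  have hft : CohB1.IsFT ((Coh.Rpush (PicF.XTproj (st k X) (tpt s)) 1).obj (Tw (pl k X c E) N)) :=
    isFT_Rpush hdim (isFinLocFree_tw hE' hN)
  have hq : Coh.IsQCoh ((Coh.Rpush (PicF.XTproj (st k X) (tpt s)) 1).obj (Tw (pl k X c E) N)) :=
    CohqA.RelCoh.isQCoh_Rpush _ _ q1 1
  have hfin := (CohqB.FiniteType2.isFT_iff_finite_sections _).1 hft ⊤ (isAffineOpen_top (tpt s).left)
  have h2 : (thetaIdeal k N (tpt s) (pl k X c E)).ideal ⟨⊤, isAffineOpen_top (tpt s).left⟩ =
      Fitt.ideal Γ((tpt s).left, ⊤)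
        Γ((Coh.Rpush (PicF.XTproj (st k X) (tpt s)) 1).obj (Tw (pl k X c E) N), ⊤) 0 :=
    SDiv.K474.FittSheaf.sheafIdeal_ideal _ hq hft 0 ⟨⊤, isAffineOpen_top (tpt s).left⟩
  rw [e1, mem_support_iff_of_subsingleton, h2, Ne, fitt_top_iff, not_iff_not]
  let b := LoccohB.TopRepSec.beta (PicF.XTproj (st k X) (tpt s)) 1 (Tw (pl k X c E) N) q1
  exact ⟨fun h => b.symm.toEquiv.subsingleton, fun h => b.toEquiv.subsingleton⟩

include hdim in
/-- `H⁰ ≠ 0` iff `H¹ ≠ 0` if `χ = 0`. -/
theorem subsingleton_iff {Ω : Type u} [Field Ω] (s : Spec (CommRingCat.of Ω) ⟶ B0 k)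
    {G : (PicF.XT (st k X) (tpt s)).Modules} (hG : CohB1.IsFP G)
    (hχ : letI := ovr X s; Curv2.euler Ω (PicF.XT (st k X) (tpt s)) G = 0) :
    Subsingleton (Coh.HH (PicF.XT (st k X) (tpt s)) G 0) ↔ Subsingleton (Coh.HH (PicF.XT (st k X) (tpt s)) G 1) := by
  let := ovr X s
  have h : IsPullback (pullback.fst (st k X) s) (pullback.snd (st k X) s) (st k X) s :=
    IsPullback.of_hasPullback _ _
  have : IsProper (PicF.XT (st k X) (tpt s) ↘ Spec (CommRingCat.of Ω)) :=
    MorphismProperty.of_isPullback h (inferInstanceAs (IsProper (st k X)))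
  have := K703.Basic.isNoetherian Ω (PicF.XT (st k X) (tpt s))
  have hd : topologicalKrullDim (PicF.XT (st k X) (tpt s)) ≤ 1 :=
    (K995.GenusField.dim_eq_of_isPullback (k := k) (k' := Ω) h).le.trans hdim
  have fin : ∀ i, Module.Finite Ω (Coh.HH (PicF.XT (st k X) (tpt s)) G i) := fun i =>
    S0002.result Ω _ G (Models2.FPCoh.isCoh_of_isFP hG) i
  have h2 := CurvesB.CurveRR.euler_eq Ω (PicF.XT (st k X) (tpt s)) hd G
  rw [hχ] at h2
  have h3 : Module.finrank Ω (Coh.HH (PicF.XT (st k X) (tpt s)) G 0) =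
      Module.finrank Ω (Coh.HH (PicF.XT (st k X) (tpt s)) G 1) := by omega
  rw [← Module.finrank_zero_iff (R := Ω), ← Module.finrank_zero_iff (R := Ω), h3]

include hdim in
/-- **The support of the theta ideal**: the points at which `E ⊗ N` has a section. -/
theorem mem_support_iff {N : X.Modules} (hN : FlatMod.IsFinLocFree N) {E : (PicF.XT (st k X) T).Modules}
    (hE : FlatMod.IsFinLocFree E) {Ω : Type u} [Field Ω] (s : Spec (CommRingCat.of Ω) ⟶ B0 k) (c : tpt s ⟶ T)
    (p : (tpt s).left)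
    (hχ : letI := ovr X s; Curv2.euler Ω (PicF.XT (st k X) (tpt s)) (Tw (pl k X c E) N) = 0) :
    c.left p ∈ (thetaIdeal k N T E).support ↔
      ¬ Subsingleton (Coh.HH (PicF.XT (st k X) (tpt s)) (Tw (pl k X c E) N) 0) := by
  rw [mem_support_iff' hdim hN hE s c p, subsingleton_iff hdim s (isFP_tw
    (PerfC.PullRestrict.isFinLocFree_pullback _ hE) (Desc.FinLocFreeSections.isFP_of_isFinLocFree hN)) hχ]

end K54.Supp
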