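import Groth.Agent.BunMod.K54.Supp
import Groth.Agent.BunMod.K356.Seq
import Groth.Agent.BunMod.K562.Jump
import Groth.Agent.BunMod.K319.SumFam
import Groth.Agent.BunMod.K140.Asm1

/-!
# The support condition of an atlas

`suppCond`: for `Q` with `SubProb k X r Q` and `N` invertible of degree `g - 1`, every atlas satisfies
`K562.Jump.SuppCond`.
-/

set_option autoImplicit false
universe u

open CategoryTheory CategoryTheory.Limits AlgebraicGeometry TensorProduct

namespace K54.SuppC

open Groth.Agent K140.BM K707.Base K707.TensL K54.Theta K54.GenPull K54.FamSec K54.DP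

variable {k : Type u} [Field k] [IsAlgClosed k] {X : Scheme.{u}} [X.Over (Spec (CommRingCat.of k))]
  [IsProper (X ↘ Spec (CommRingCat.of k))] [Smooth (X ↘ Spec (CommRingCat.of k))]
  [GeometricallyConnected (X ↘ Spec (CommRingCat.of k))] (hdim : topologicalKrullDim X = 1)

include hdim in
/-- `χ(c^*E ⊗ N) = 0` for semistable bundles of degree `0`. -/
theorem chi_zero {N : X.Modules} (hN : PicF.IsInvertible N) (hd : Curv2.deg k X N 1 = (Curv2.genus k X : ℤ) - 1)
    {r : ℕ} {Ω : Type u} [Field Ω] [IsAlgClosed Ω] {s : Spec (CommRingCat.of Ω) ⟶ B0 k}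
    {E : (PicF.XT (st k X) (tpt s)).Modules} (hE : SSB r s E) :
    letI := ovr X s
    Curv2.euler Ω (PicF.XT (st k X) (tpt s)) (CohB1.tensorMod E (cst k (tpt s) N)) = 0 := by
  obtain ⟨S, rfl, hS⟩ := BunMod.K356.Seq.exists_seq (k := k) hdim hN hd
  exact hS.chi₁ hdim hE

include hdim in
/-- **The support of the theta ideal** of an admissible family. -/
theorem mem_support_iff {N : X.Modules} (hN : PicF.IsInvertible N)
    (hd : Curv2.deg k X N 1 = (Curv2.genus k X : ℤ) - 1) {r : ℕ} {T : Over (B0 k)}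
    {E : (PicF.XT (st k X) T).Modules} (hE : BunMod.ussOK (st k X) r 0 T E) {Ω : Type u} [Field Ω] [IsAlgClosed Ω]
    (s : Spec (CommRingCat.of Ω) ⟶ B0 k) (c : tpt s ⟶ T) (p : (tpt s).left) :
    c.left p ∈ (thetaIdeal k N T E).support ↔ K562.Jump.SecAt N Ω s (pl k X c E) :=
  Supp.mem_support_iff hdim.le (isFinLocFree_of_rank (rank_one_iff.2 hN))
    (isFinLocFree_of_rank hE.1) s c p (chi_zero hdim hN hd (K319.SumFam.ssb_pl hE c))

include hdim in
/-- **The support condition** of the descent of the theta ideal. -/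
theorem suppCond {N : X.Modules} (hN : PicF.IsInvertible N) (hd : Curv2.deg k X N 1 = (Curv2.genus k X : ℤ) - 1)
    {r : ℕ} {Q : ∀ T : Over (B0 k), (ModFun.modProb (st k X)).Fam T → Prop} (hQ : SubProb k X r Q)
    (A : AtlasC k X Q) : K562.Jump.SuppCond A N :=
  fun _ _ _ s c p => mem_support_iff hdim hN hd (hQ.le _ _ A.ok) s c p

end K54.SuppC
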