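import Groth.Agent.BunMod.K54.TwExact
import Groth.Agent.QuotLF.K821.FittMinors
import Groth.Agent.CurvesB.HZero
import Groth.Agent.CurvesB.CurveRR

/-!
# Determinantal presentations of the theta ideal

`S : 0 ⟶ N ⟶ L ⟶ Q ⟶ 0` on `X`, `E` a family over `T`.
* `DetPres S T E`: universal bases `e` of `Γ(X_T, E ⊗ L)`, `f` of `Γ(X_T, E ⊗ Q)` of the same size `n` and the matrix `d`
  of `Γ(X_T, E ⊗ L) ⟶ Γ(X_T, E ⊗ Q)`; `DetPres.pull`, `DetPres.iso`;
* `DetPres.ideal`: for `T` affine, `H¹` of the geometric fibres of `E ⊗ L` zero: `thetaIdeal = (det d)`.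
-/

set_option autoImplicit false
universe u

open CategoryTheory CategoryTheory.Limits AlgebraicGeometry TensorProduct

namespace K54.DP

open Groth.Agent K140.BM Groth.Agent.Fga.RigGrp K54.Theta K54.GenPull K54.FamSec K54.UB K54.TwExact K311.PushFree

section Alg

variable {R : Type u} [CommRing R] {n : ℕ}

theorem det_submatrix_mem (X : Matrix (Fin n) (Fin n) R) (e f : Fin n → Fin n) :
    (X.submatrix e f).det ∈ Ideal.span {X.det} := by
  have h : X.submatrix e f = (1 : Matrix (Fin n) (Fin n) R).submatrix e id * X *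
      (1 : Matrix (Fin n) (Fin n) R).submatrix id f := by
    ext i j
    simp [Matrix.mul_apply, Matrix.one_apply]
  rw [h, Matrix.det_mul, Matrix.det_mul]
  exact Ideal.mem_span_singleton'.2 ⟨((1 : Matrix (Fin n) (Fin n) R).submatrix e id).det *
    ((1 : Matrix (Fin n) (Fin n) R).submatrix id f).det, by ring⟩

theorem minorIdeal_self (X : Matrix (Fin n) (Fin n) R) : K821.Minors.minorIdeal n X = Ideal.span {X.det} := by
  refine le_antisymm ((K821.Minors.minorIdeal_le_iff n X _).2 (det_submatrix_mem X)) ?_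
  rw [Ideal.span_singleton_le_iff_mem]
  have h := K821.Minors.minor_mem n X id id
  rwa [Matrix.submatrix_id_id] at h

/-- `Fitt_0` of the cokernel of a square matrix. -/
theorem fitt_of_square {A B M : Type u} [AddCommGroup A] [Module R A] [AddCommGroup B] [Module R B] [AddCommGroup M]
    [Module R M] (φ : A →ₗ[R] B) (π : B →ₗ[R] M) (hπ : Function.Surjective π)
    (hex : ∀ x, π x = 0 ↔ ∃ y, φ y = x) (e : Fin n → A) (f : Fin n → B)
    (he : ∀ x, ∃! c : Fin n → R, x = ∑ i, c i • e i) (hf : ∀ x, ∃! c : Fin n → R, x = ∑ i, c i • f i)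
    (d : Matrix (Fin n) (Fin n) R) (hd : ∀ i, φ (e i) = ∑ j, d j i • f j) :
    Fitt.ideal R M 0 = Ideal.span {d.det} := by
  have key : ∀ a : Fin n → R, φ (∑ i, a i • e i) = ∑ j, (∑ i, a i * d j i) • f j := by
    intro a
    simp only [map_sum, map_smul, hd, Finset.smul_sum, Finset.sum_smul, mul_smul]
    exact Finset.sum_comm
  have h1 := K821.FittMinors.fitt_of_rel (M := M) (fun j => π (f j)) ?_ (κ := ULift.{u} (Fin n))
    (fun i j => d j i.down) ?_ 0
  · rw [h1]
    have h2 : (Matrix.of fun (i : Fin n) (j : ULift.{u} (Fin n)) => d i j.down) =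
        d.submatrix id ULift.down := rfl
    rw [h2, Nat.sub_zero]
    refine le_antisymm ((K821.Minors.minorIdeal_le_iff n _ _).2 fun a b => ?_) ?_
    · exact det_submatrix_mem d a (fun i => (b i).down)
    · rw [Ideal.span_singleton_le_iff_mem]
      have h := K821.Minors.minor_mem n (d.submatrix id (ULift.down.{u})) id ULift.up
      exact h
  · rw [eq_top_iff]
    intro m _
    obtain ⟨b, rfl⟩ := hπ m
    obtain ⟨c, hc, -⟩ := hf b
    rw [hc, map_sum]
    refine Submodule.sum_mem _ fun i _ => ?_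
    rw [map_smul]
    exact Submodule.smul_mem _ _ (Submodule.subset_span ⟨i, rfl⟩)
  · intro c
    have h3 : ∑ i, c i • π (f i) = π (∑ i, c i • f i) := by simp only [map_sum, map_smul]
    rw [h3, hex, Submodule.mem_span_range_iff_exists_fun]
    constructor
    · rintro ⟨y, hy⟩
      obtain ⟨a, ha, -⟩ := he y
      rw [ha, key] at hy
      refine ⟨fun i => a i.down, ?_⟩
      have h4 := (hf (∑ i, c i • f i)).unique hy.symm rfl
      rw [← h4]
      funext j
      rw [Finset.sum_apply]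
      simp only [Pi.smul_apply, smul_eq_mul]
      exact (Equiv.sum_comp Equiv.ulift (fun i : Fin n => a i * d j i))
    · rintro ⟨a, ha⟩
      refine ⟨∑ i, a ⟨i⟩ • e i, ?_⟩
      rw [key]
      refine Finset.sum_congr rfl fun j _ => ?_
      congr 1
      rw [← ha, Finset.sum_apply]
      simp only [Pi.smul_apply, smul_eq_mul]
      exact (Equiv.sum_comp Equiv.ulift (fun i : Fin n => a ⟨i⟩ * d j i)).symm

end Alg

variable {k : Type u} [Field k] {X : Scheme.{u}} [X.Over (Spec (CommRingCat.of k))] {T T' T'' : Over (B0 k)}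

/-- A determinantal presentation: universal bases of `Γ(E ⊗ L)` and `Γ(E ⊗ Q)` of the same size and the matrix of
`Γ(E ⊗ L) ⟶ Γ(E ⊗ Q)`. -/
structure DetPres (S : ShortComplex X.Modules) (T : Over (B0 k)) (E : (PicF.XT (st k X) T).Modules) where
  /-- the size -/
  n : ℕ
  /-- the basis of `Γ(E ⊗ L)` -/
  e : Fin n → Sec (Tw E S.X₂)
  /-- the basis of `Γ(E ⊗ Q)` -/
  f : Fin n → Sec (Tw E S.X₃)
  ube : IsUB (Tw E S.X₂) e
  ubf : IsUB (Tw E S.X₃) f
  /-- the matrix -/
  d : Matrix (Fin n) (Fin n) Γ(T.left, ⊤)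
  hd : ∀ i, smap (rmap E S.g) (e i) = ∑ j, d j i • f j

variable {S : ShortComplex X.Modules} {E E' : (PicF.XT (st k X) T).Modules}

/-- Base change of determinantal presentations. -/
noncomputable def DetPres.pull (D : DetPres S T E) (g : T' ⟶ T) : DetPres S T' (pl k X g E) where
  n := D.n
  e i := BcTw g E S.X₂ (D.e i)
  f i := BcTw g E S.X₃ (D.f i)
  ube := D.ube.pullTw g
  ubf := D.ubf.pullTw g
  d := D.d.map g.left.appTop
  hd i := by
    rw [← bcTw_rmap, D.hd, bcTw_sum]
    rfl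

theorem DetPres.pull_d (D : DetPres S T E) (g : T' ⟶ T) : (D.pull g).d = D.d.map g.left.appTop := rfl

theorem DetPres.det_pull (D : DetPres S T E) (g : T' ⟶ T) : (D.pull g).d.det = g.left.appTop D.d.det :=
  (RingHom.map_det g.left.appTop.hom D.d).symm

/-- Change of the family. -/
noncomputable def DetPres.iso (D : DetPres S T E) (a : E ≅ E') : DetPres S T E' where
  n := D.n
  e i := smap (lmap a.hom S.X₂) (D.e i)
  f i := smap (lmap a.hom S.X₃) (D.f i)
  ube := D.ube.iso (lmapIso a S.X₂)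
  ubf := D.ubf.iso (lmapIso a S.X₃)
  d := D.d
  hd i := by
    rw [← gsmap_comp, PullP.gl_gr, gsmap_comp, D.hd, map_sum]
    exact Finset.sum_congr rfl fun j _ => map_smul _ _ _

section Ideal

variable [IsProper (st k X)] [LocallyOfFinitePresentation (st k X)] (hdim : topologicalKrullDim X ≤ 1)
  (hS : S.ShortExact) (h1 : FlatMod.IsFinLocFree S.X₁) (h2 : FlatMod.IsFinLocFree S.X₂) (h3 : CohB1.IsFP S.X₃)
  (hE : FlatMod.IsFinLocFree E) (hv : GeomTw E S.X₂)

include hdim hS h1 h2 h3 hE hv in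
/-- **The theta ideal is generated by the determinant.** -/
theorem DetPres.ideal [IsAffine T.left] (D : DetPres S T E) :
    (thetaIdeal k S.X₁ T E).ideal ⟨⊤, isAffineOpen_top T.left⟩ = Ideal.span {D.d.det} := by
  have q1 : Coh.IsQCoh (Tw E S.X₁) := isQCoh_tw hE (Desc.FinLocFreeSections.isFP_of_isFinLocFree h1)
  have q2 : Coh.IsQCoh (Tw E S.X₂) := isQCoh_tw hE (Desc.FinLocFreeSections.isFP_of_isFinLocFree h2)
  have q3 : Coh.IsQCoh (Tw E S.X₃) := isQCoh_tw hE h3
  have fp2 := isFP_tw hE (Desc.FinLocFreeSections.isFP_of_isFinLocFree h2)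
  have hz := isZero_R1 fp2 (isFlatOver_tw hE S.X₂) (hv.geomH1 hE (Desc.FinLocFreeSections.isFP_of_isFinLocFree h2))
  obtain ⟨π, hπ, hex⟩ := exists_presentation (PicF.XTproj (st k X) T) (shortExact_twS hE hS) q1 q2 q3 hz
  have hft : CohB1.IsFT ((Coh.Rpush (PicF.XTproj (st k X) T) 1).obj (Tw E S.X₁)) :=
    isFT_Rpush hdim (isFinLocFree_tw hE h1)
  have hq : Coh.IsQCoh ((Coh.Rpush (PicF.XTproj (st k X) T) 1).obj (Tw E S.X₁)) :=
    CohqA.RelCoh.isQCoh_Rpush _ _ q1 1
  refine (SDiv.K474.FittSheaf.sheafIdeal_ideal _ hq hft 0 ⟨⊤, isAffineOpen_top T.left⟩).trans ?_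
  exact fitt_of_square (smap (rmap E S.g)) π hπ hex D.e D.f D.ube.self D.ubf.self D.d D.hd

end Ideal

end K54.DP
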