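import Groth.Agent.BunMod.K54.GenPull

/-!
# Pull-back of `E ⊗ p^* L` and of sections, with an abstract pull-back operation

The statements of `K54.GenPull` for functions `P` with `IsPB f P : P = (Scheme.Modules.pullback f).obj ·`, so that
they can be used for `P = pl k X g`, `P = cst k T` without unfolding (comparing `pl k X g G` with its unfolding inside
larger terms is very expensive for the kernel).
-/

set_option autoImplicit false
universe u

open CategoryTheory CategoryTheory.Limits AlgebraicGeometry TensorProduct MonoidalCategory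

namespace K54.PullP

open Groth.Agent K54.GenPull

/-- `P` is the pull-back along `f`. -/
def IsPB {Y Y' : Scheme.{u}} (f : Y' ⟶ Y) (P : Y.Modules → Y'.Modules) : Prop :=
  P = fun M => (Scheme.Modules.pullback f).obj M

section

variable {Y Y' Y'' : Scheme.{u}} {f : Y' ⟶ Y} {P : Y.Modules → Y'.Modules}

/-- Functoriality of `P`. -/
noncomputable def pm (h : IsPB f P) {M N : Y.Modules} (φ : M ⟶ N) : P M ⟶ P N := by
  cases h
  exact (Scheme.Modules.pullback f).map φ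

theorem pm_id (h : IsPB f P) (M : Y.Modules) : pm h (𝟙 M) = 𝟙 (P M) := by
  cases h
  exact (Scheme.Modules.pullback f).map_id M

theorem pm_comp (h : IsPB f P) {M N K : Y.Modules} (φ : M ⟶ N) (ψ : N ⟶ K) :
    pm h (φ ≫ ψ) = pm h φ ≫ pm h ψ := by
  cases h
  exact (Scheme.Modules.pullback f).map_comp φ ψ

/-- `P` on isomorphisms. -/
noncomputable def pmIso (h : IsPB f P) {M N : Y.Modules} (e : M ≅ N) : P M ≅ P N where
  hom := pm h e.hom
  inv := pm h e.inv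
  hom_inv_id := by rw [← pm_comp, e.hom_inv_id, pm_id]
  inv_hom_id := by rw [← pm_comp, e.inv_hom_id, pm_id]

theorem pmIso_hom (h : IsPB f P) {M N : Y.Modules} (e : M ≅ N) : (pmIso h e).hom = pm h e.hom := rfl

variable {f' : Y'' ⟶ Y'} {P' : Y'.Modules → Y''.Modules} {f'' : Y'' ⟶ Y} {P'' : Y.Modules → Y''.Modules}

/-- `P' (P M) ≅ P'' M`. -/
noncomputable def pcc (w : f' ≫ f = f'') (h : IsPB f P) (h' : IsPB f' P') (h'' : IsPB f'' P'') (M : Y.Modules) :
    P' (P M) ≅ P'' M := by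
  cases h; cases h'; cases h''
  exact GenPull.pcc w M

theorem pcc_nat (w : f' ≫ f = f'') (h : IsPB f P) (h' : IsPB f' P') (h'' : IsPB f'' P'') {M N : Y.Modules}
    (b : M ⟶ N) : pm h' (pm h b) ≫ (pcc w h h' h'' N).hom = (pcc w h h' h'' M).hom ≫ pm h'' b := by
  cases h; cases h'; cases h''
  exact GenPull.pcc_nat w b

/-- `P M ≅ M`. -/
noncomputable def pid {f : Y ⟶ Y} {P : Y.Modules → Y.Modules} (w : f = 𝟙 Y) (h : IsPB f P) (M : Y.Modules) :
    P M ≅ M := by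
  cases h
  exact GenPull.pid w M

/-- `E ⊗ A ⟶ E' ⊗ A`. -/
noncomputable def gl {E E' : Y.Modules} (φ : E ⟶ E') (A : Y.Modules) : CohB1.tensorMod E A ⟶ CohB1.tensorMod E' A :=
  open scoped Groth.Agent.Dcoh.MonCat in φ ▷ A

/-- `E ⊗ A ⟶ E ⊗ A'`. -/
noncomputable def gr (E : Y.Modules) {A A' : Y.Modules} (b : A ⟶ A') : CohB1.tensorMod E A ⟶ CohB1.tensorMod E A' :=
  open scoped Groth.Agent.Dcoh.MonCat in E ◁ b

open scoped Groth.Agent.Dcoh.MonCat in
theorem gl_id (E A : Y.Modules) : gl (𝟙 E) A = 𝟙 _ := MonoidalCategory.id_whiskerRight _ _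

open scoped Groth.Agent.Dcoh.MonCat in
theorem gl_comp {E E' E'' : Y.Modules} (φ : E ⟶ E') (ψ : E' ⟶ E'') (A : Y.Modules) :
    gl (φ ≫ ψ) A = gl φ A ≫ gl ψ A := MonoidalCategory.comp_whiskerRight _ _ _

open scoped Groth.Agent.Dcoh.MonCat in
theorem gr_id (E A : Y.Modules) : gr E (𝟙 A) = 𝟙 _ := MonoidalCategory.whiskerLeft_id _ _

open scoped Groth.Agent.Dcoh.MonCat in
theorem gr_comp (E : Y.Modules) {A A' A'' : Y.Modules} (b : A ⟶ A') (c : A' ⟶ A'') :
    gr E (b ≫ c) = gr E b ≫ gr E c := MonoidalCategory.whiskerLeft_comp _ _ _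

open scoped Groth.Agent.Dcoh.MonCat in
theorem gl_gr {E E' : Y.Modules} (φ : E ⟶ E') {A A' : Y.Modules} (b : A ⟶ A') :
    gl φ A ≫ gr E' b = gr E b ≫ gl φ A' := (whisker_exchange _ _).symm

open scoped Groth.Agent.Dcoh.MonCat in
theorem gr_zero (E A A' : Y.Modules) : gr E (0 : A ⟶ A') = 0 := MonoidalPreadditive.whiskerLeft_zero

variable {X₀ : Scheme.{u}} {p : Y ⟶ X₀} {C : X₀.Modules → Y.Modules} {p' : Y' ⟶ X₀} {C' : X₀.Modules → Y'.Modules}
  {p'' : Y'' ⟶ X₀} {C'' : X₀.Modules → Y''.Modules}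

/-- `P (E ⊗ C L) ≅ P E ⊗ C' L`. -/
noncomputable def gtw (v : f ≫ p = p') (h : IsPB f P) (hC : IsPB p C) (hC' : IsPB p' C') (E : Y.Modules)
    (L : X₀.Modules) : P (CohB1.tensorMod E (C L)) ≅ CohB1.tensorMod (P E) (C' L) := by
  cases h; cases hC; cases hC'
  exact GenPull.gtw v E L

theorem gtw_gl (v : f ≫ p = p') (h : IsPB f P) (hC : IsPB p C) (hC' : IsPB p' C') {E E' : Y.Modules} (φ : E ⟶ E')
    (L : X₀.Modules) : pm h (gl φ (C L)) ≫ (gtw v h hC hC' E' L).hom =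
      (gtw v h hC hC' E L).hom ≫ gl (pm h φ) (C' L) := by
  cases h; cases hC; cases hC'
  exact GenPull.gtw_gl v φ L

theorem gtw_gr (v : f ≫ p = p') (h : IsPB f P) (hC : IsPB p C) (hC' : IsPB p' C') (E : Y.Modules)
    {L L' : X₀.Modules} (b : L ⟶ L') : pm h (gr E (pm hC b)) ≫ (gtw v h hC hC' E L').hom =
      (gtw v h hC hC' E L).hom ≫ gr (P E) (pm hC' b) := by
  cases h; cases hC; cases hC'
  exact GenPull.gtw_gr v E b

theorem gtw_comp (v : f ≫ p = p') (v' : f' ≫ p' = p'') (w : f' ≫ f = f'') (v'' : f'' ≫ p = p'') (h : IsPB f P)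
    (h' : IsPB f' P') (h'' : IsPB f'' P'') (hC : IsPB p C) (hC' : IsPB p' C') (hC'' : IsPB p'' C'')
    (E : Y.Modules) (L : X₀.Modules) :
    pm h' (gtw v h hC hC' E L).hom ≫ (gtw v' h' hC' hC'' (P E) L).hom ≫ gl (pcc w h h' h'' E).hom (C'' L) =
      (pcc w h h' h'' (CohB1.tensorMod E (C L))).hom ≫ (gtw v'' h'' hC hC'' E L).hom := by
  cases h; cases h'; cases h''; cases hC; cases hC'; cases hC''
  exact GenPull.gtw_comp v v' w v'' E L

end

section Sec

variable {X S X' S' X'' S'' : Scheme.{u}} {q : X ⟶ S} {g : S' ⟶ S} {f : X' ⟶ X} {q' : X' ⟶ S'}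
  {P : X.Modules → X'.Modules}

/-- Pull-back of sections. -/
noncomputable def bc (w : f ≫ q = q' ≫ g) (h : IsPB f P) (M : X.Modules) : gSec q M →+ gSec q' (P M) := by
  cases h
  exact gbc w M

theorem bc_smul (w : f ≫ q = q' ≫ g) (h : IsPB f P) (M : X.Modules) (a : Γ(S, ⊤)) (x : gSec q M) :
    bc w h M (a • x) = g.appTop a • bc w h M x := by
  cases h
  exact gbc_smul w M a x

theorem bc_map (w : f ≫ q = q' ≫ g) (h : IsPB f P) {M M' : X.Modules} (φ : M ⟶ M') (x : gSec q M) :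
    bc w h M' (gsmap q φ x) = gsmap q' (pm h φ) (bc w h M x) := by
  cases h
  exact gbc_map w φ x

theorem bc_comp {g' : S'' ⟶ S'} {f' : X'' ⟶ X'} {q'' : X'' ⟶ S''} {g'' : S'' ⟶ S} {f'' : X'' ⟶ X}
    {P' : X'.Modules → X''.Modules} {P'' : X.Modules → X''.Modules}
    (w : f ≫ q = q' ≫ g) (w' : f' ≫ q' = q'' ≫ g') (v : f' ≫ f = f'') (w'' : f'' ≫ q = q'' ≫ g'')
    (h : IsPB f P) (h' : IsPB f' P') (h'' : IsPB f'' P'') (M : X.Modules) (x : gSec q M) :
    gsmap q'' (pcc v h h' h'' M).hom (bc w' h' (P M) (bc w h M x)) = bc w'' h'' M x := by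
  cases h; cases h'; cases h''
  exact gbc_comp w w' v w'' M x

theorem bc_id {g : S ⟶ S} {f : X ⟶ X} {P : X.Modules → X.Modules} (v : f = 𝟙 X) (w : f ≫ q = q ≫ g)
    (h : IsPB f P) (M : X.Modules) (x : gSec q M) : gsmap q (pid v h M).hom (bc w h M x) = x := by
  cases h
  exact gbc_id v w M x

variable {X₀ : Scheme.{u}} {p : X ⟶ X₀} {C : X₀.Modules → X.Modules} {p' : X' ⟶ X₀} {C' : X₀.Modules → X'.Modules}

/-- Pull-back of sections of `E ⊗ C L`. -/
noncomputable def bcTw (w : f ≫ q = q' ≫ g) (v : f ≫ p = p') (h : IsPB f P) (hC : IsPB p C) (hC' : IsPB p' C')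
    (E : X.Modules) (L : X₀.Modules) :
    gSec q (CohB1.tensorMod E (C L)) →+ gSec q' (CohB1.tensorMod (P E) (C' L)) :=
  (gsmap q' (gtw v h hC hC' E L).hom).toAddMonoidHom.comp (bc w h _)

theorem bcTw_apply (w : f ≫ q = q' ≫ g) (v : f ≫ p = p') (h : IsPB f P) (hC : IsPB p C) (hC' : IsPB p' C')
    (E : X.Modules) (L : X₀.Modules) (x : gSec q (CohB1.tensorMod E (C L))) :
    bcTw w v h hC hC' E L x = gsmap q' (gtw v h hC hC' E L).hom (bc w h _ x) := rfl

theorem bcTw_smul (w : f ≫ q = q' ≫ g) (v : f ≫ p = p') (h : IsPB f P) (hC : IsPB p C) (hC' : IsPB p' C')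
    (E : X.Modules) (L : X₀.Modules) (a : Γ(S, ⊤)) (x : gSec q (CohB1.tensorMod E (C L))) :
    bcTw w v h hC hC' E L (a • x) = g.appTop a • bcTw w v h hC hC' E L x := by
  rw [bcTw_apply, bc_smul, map_smul, bcTw_apply]

theorem bcTw_gl (w : f ≫ q = q' ≫ g) (v : f ≫ p = p') (h : IsPB f P) (hC : IsPB p C) (hC' : IsPB p' C')
    {E E' : X.Modules} (φ : E ⟶ E') (L : X₀.Modules) (x : gSec q (CohB1.tensorMod E (C L))) :
    bcTw w v h hC hC' E' L (gsmap q (gl φ (C L)) x) =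
      gsmap q' (gl (pm h φ) (C' L)) (bcTw w v h hC hC' E L x) := by
  rw [bcTw_apply, bc_map, bcTw_apply, ← gsmap_comp, ← gsmap_comp, gtw_gl]

theorem bcTw_gr (w : f ≫ q = q' ≫ g) (v : f ≫ p = p') (h : IsPB f P) (hC : IsPB p C) (hC' : IsPB p' C')
    (E : X.Modules) {L L' : X₀.Modules} (b : L ⟶ L') (x : gSec q (CohB1.tensorMod E (C L))) :
    bcTw w v h hC hC' E L' (gsmap q (gr E (pm hC b)) x) =
      gsmap q' (gr (P E) (pm hC' b)) (bcTw w v h hC hC' E L x) := by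
  rw [bcTw_apply, bc_map, bcTw_apply, ← gsmap_comp, ← gsmap_comp, gtw_gr]

theorem bcTw_comp {g' : S'' ⟶ S'} {f' : X'' ⟶ X'} {q'' : X'' ⟶ S''} {g'' : S'' ⟶ S} {f'' : X'' ⟶ X}
    {P' : X'.Modules → X''.Modules} {P'' : X.Modules → X''.Modules} {p'' : X'' ⟶ X₀}
    {C'' : X₀.Modules → X''.Modules}
    (w : f ≫ q = q' ≫ g) (w' : f' ≫ q' = q'' ≫ g') (v : f' ≫ f = f'') (w'' : f'' ≫ q = q'' ≫ g'')
    (u : f ≫ p = p') (u' : f' ≫ p' = p'') (u'' : f'' ≫ p = p'')
    (h : IsPB f P) (h' : IsPB f' P') (h'' : IsPB f'' P'') (hC : IsPB p C) (hC' : IsPB p' C') (hC'' : IsPB p'' C'')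
    (E : X.Modules) (L : X₀.Modules) (x : gSec q (CohB1.tensorMod E (C L))) :
    gsmap q'' (gl (pcc v h h' h'' E).hom (C'' L)) (bcTw w' u' h' hC' hC'' (P E) L (bcTw w u h hC hC' E L x)) =
      bcTw w'' u'' h'' hC hC'' E L x := by
  rw [bcTw_apply, bcTw_apply, bcTw_apply, bc_map, ← bc_comp w w' v w'' h h' h'', ← gsmap_comp, ← gsmap_comp,
    ← gsmap_comp, ← gtw_comp u u' v u'']

end Sec

end K54.PullP
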