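import Groth.Agent.BunMod.K54.Theta
import Groth.Agent.BunMod.K54.PullP

/-!
# Sections of families and their base change

For `G` on `X_T`. All notions are instances of those of `K54.PullP` (pull-back operations `P` with `IsPB f P`), written
with notations (`open K54.FamSec`), not with definitions: comparing `pl k X g G` with its unfolding (or any reducible
wrapper with its unfolding) inside `Functor.obj` or a coercion to functions is very expensive for the kernel, so
statements must stay syntactically the same.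

* `Sec G = Γ(X_T, G)` as a module over `Γ(T, O)`; `smap φ` its functoriality (`GenPull.gsmap_id`, `gsmap_comp`,
  `gsmap_add`), `sIso e`;
* `plm g φ : pl k X g G ⟶ pl k X g G'`, `cm T b : cst k T L ⟶ cst k T L'` (`PullP.pm_id`, `pm_comp`); they are the
  functor maps by `rfl`: `plm_eq`, `cm_eq`;
* `Bc g G : Sec G →+ Sec (pl k X g G)` the pull-back of sections along `g : T' ⟶ T`: `bc_smul`, `bc_smap`, `bc_comp`,
  `bc_id`;
* `lmap φ L : tw E L ⟶ tw E' L`, `rmap E b : tw E L ⟶ tw E L'`, `TwPl g E L : pl g (Tw E L) ≅ tw (pl g E) L`,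
  `PlComp g g' E`: `pl g' (pl g E) ≅ pl (g' ≫ g) E`;
* `BcTw g E L : Sec (Tw E L) →+ Sec (tw (pl k X g E) L)`: `bcTw_smul`, `bcTw_lmap`, `bcTw_rmap`, `bcTw_comp`.
-/

set_option autoImplicit false
universe u

open CategoryTheory CategoryTheory.Limits AlgebraicGeometry TensorProduct MonoidalCategory

namespace K54.FamSec

open Groth.Agent K140.BM Groth.Agent.Fga.RigGrp K54.Theta K54.GenPull

section Not

variable {k : Type u} [Field k] {X : Scheme.{u}} [X.Over (Spec (CommRingCat.of k))]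

theorem isPB_pl {T T' : Over (B0 k)} (g : T' ⟶ T) : PullP.IsPB (PicF.XTmap (st k X) g) (pl k X g) := rfl

theorem isPB_cst (T : Over (B0 k)) : PullP.IsPB (pullback.fst (st k X) T.hom) (cst k T) := rfl

/-- Global sections over `X_T`, as a module over the functions on `T`. -/
abbrev Sec {T : Over (B0 k)} (G : (PicF.XT (st k X) T).Modules) : Type u := gSec (PicF.XTproj (st k X) T) G

end Not

/-- Functoriality of sections. -/
scoped syntax:max (name := smapStx) "smap" term:max : term
/-- Sections of isomorphic families. -/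
scoped syntax:max (name := sIsoStx) "sIso" term:max : term
/-- Functoriality of the pull-back of families. -/
scoped syntax:max (name := plmStx) "plm" term:max term:max : term
/-- Functoriality of constant families. -/
scoped syntax:max (name := cmStx) "cm" term:max term:max : term
/-- Pull-back of sections. -/
scoped syntax:max (name := bcStx) "Bc" term:max term:max : term
/-- Transitivity of the pull-back of families. -/
scoped syntax:max (name := plCompStx) "PlComp" term:max term:max term:max : term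
/-- Pull-back of families along the identity. -/
scoped syntax:max (name := plIdStx) "PlId" term:max : term
/-- Functoriality of `E ⊗ L_T` in `E`. -/
scoped syntax:max (name := lmapStx) "lmap" term:max term:max : term
/-- Functoriality of `E ⊗ L_T` in `L`. -/
scoped syntax:max (name := rmapStx) "rmap" term:max term:max : term
/-- `E ⊗ L_T` (this is `K54.Theta.tw E L` unfolded). -/
scoped syntax:max (name := twStx) "Tw" term:max term:max : term
/-- Pull-back of `E ⊗ L_T`. -/
scoped syntax:max (name := twPlStx) "TwPl" term:max term:max term:max : term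
/-- Pull-back of sections of `E ⊗ L_T`. -/
scoped syntax:max (name := bcTwStx) "BcTw" term:max term:max term:max : term

scoped macro_rules
  | `(smap $φ) => `(gsmap (PicF.XTproj (st _ _) _) $φ)
  | `(sIso $e) => `(gsIso (PicF.XTproj (st _ _) _) $e)
  | `(plm $g $φ) => `(PullP.pm (isPB_pl $g) $φ)
  | `(cm $T $b) => `(PullP.pm (isPB_cst $T) $b)
  | `(Bc $g $G) => `(PullP.bc (isPullback_XTmap $g).w (isPB_pl $g) $G)
  | `(PlComp $g $g' $G) => `(PullP.pcc (XTmap_comp (st _ _) $g $g').symm (isPB_pl $g) (isPB_pl $g')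
      (isPB_pl ($g' ≫ $g)) $G)
  | `(PlId $G) => `(PullP.pid (XTmap_id (st _ _) _) (isPB_pl (𝟙 _)) $G)
  | `(lmap $φ $L) => `(PullP.gl $φ (cst _ _ $L))
  | `(rmap $E $b) => `(PullP.gr $E (PullP.pm (isPB_cst _) $b))
  | `(Tw $E $L) => `(CohB1.tensorMod $E (cst _ _ $L))
  | `(TwPl $g $E $L) => `(PullP.gtw (XTmap_fst (st _ _) $g) (isPB_pl $g) (isPB_cst _) (isPB_cst _) $E $L)
  | `(BcTw $g $E $L) => `(PullP.bcTw (isPullback_XTmap $g).w (XTmap_fst (st _ _) $g) (isPB_pl $g) (isPB_cst _)
      (isPB_cst _) $E $L)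

variable {k : Type u} [Field k] {X : Scheme.{u}} [X.Over (Spec (CommRingCat.of k))]

section Basic

variable {T T' T'' : Over (B0 k)}

theorem plm_eq (g : T' ⟶ T) {G G' : (PicF.XT (st k X) T).Modules} (φ : G ⟶ G') :
    plm g φ = (Scheme.Modules.pullback (PicF.XTmap (st k X) g)).map φ := rfl

theorem cm_eq (T : Over (B0 k)) {L L' : X.Modules} (b : L ⟶ L') :
    cm T b = (Scheme.Modules.pullback (pullback.fst (st k X) T.hom)).map b := rfl

theorem bc_smul (g : T' ⟶ T) (G : (PicF.XT (st k X) T).Modules) (a : Γ(T.left, ⊤)) (x : Sec G) :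
    Bc g G (a • x) = g.left.appTop a • Bc g G x :=
  PullP.bc_smul (isPullback_XTmap g).w (isPB_pl g) G a x

theorem bc_smap (g : T' ⟶ T) {G G' : (PicF.XT (st k X) T).Modules} (φ : G ⟶ G') (x : Sec G) :
    Bc g G' (smap φ x) = smap (plm g φ) (Bc g G x) :=
  PullP.bc_map (isPullback_XTmap g).w (isPB_pl g) φ x

theorem bc_comp (g : T' ⟶ T) (g' : T'' ⟶ T') (G : (PicF.XT (st k X) T).Modules) (x : Sec G) :
    smap (PlComp g g' G).hom (Bc g' (pl k X g G) (Bc g G x)) = Bc (g' ≫ g) G x :=
  PullP.bc_comp (isPullback_XTmap g).w (isPullback_XTmap g').w (XTmap_comp (st k X) g g').symm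
    (isPullback_XTmap (g' ≫ g)).w (isPB_pl g) (isPB_pl g') (isPB_pl (g' ≫ g)) G x

theorem bc_id (G : (PicF.XT (st k X) T).Modules) (x : Sec G) : smap (PlId G).hom (Bc (𝟙 T) G x) = x :=
  PullP.bc_id (XTmap_id (st k X) T) (isPullback_XTmap (𝟙 T)).w (isPB_pl (𝟙 T)) G x

end Basic

section Twist

variable {T T' T'' : Over (B0 k)}

theorem twPl_lmap (g : T' ⟶ T) {E E' : (PicF.XT (st k X) T).Modules} (φ : E ⟶ E') (L : X.Modules) :
    plm g (lmap φ L) ≫ (TwPl g E' L).hom = (TwPl g E L).hom ≫ lmap (plm g φ) L :=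
  PullP.gtw_gl (XTmap_fst (st k X) g) (isPB_pl g) (isPB_cst T) (isPB_cst T') φ L

theorem twPl_rmap (g : T' ⟶ T) (E : (PicF.XT (st k X) T).Modules) {L L' : X.Modules} (b : L ⟶ L') :
    plm g (rmap E b) ≫ (TwPl g E L').hom = (TwPl g E L).hom ≫ rmap (pl k X g E) b :=
  PullP.gtw_gr (XTmap_fst (st k X) g) (isPB_pl g) (isPB_cst T) (isPB_cst T') E b

theorem twPl_comp (g : T' ⟶ T) (g' : T'' ⟶ T') (E : (PicF.XT (st k X) T).Modules) (L : X.Modules) :
    plm g' (TwPl g E L).hom ≫ (TwPl g' (pl k X g E) L).hom ≫ lmap (PlComp g g' E).hom L =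
      (PlComp g g' (Tw E L)).hom ≫ (TwPl (g' ≫ g) E L).hom :=
  PullP.gtw_comp (XTmap_fst (st k X) g) (XTmap_fst (st k X) g') (XTmap_comp (st k X) g g').symm
    (XTmap_fst (st k X) (g' ≫ g)) (isPB_pl g) (isPB_pl g') (isPB_pl (g' ≫ g)) (isPB_cst T) (isPB_cst T')
    (isPB_cst T'') E L

theorem bcTw_apply (g : T' ⟶ T) (E : (PicF.XT (st k X) T).Modules) (L : X.Modules) (x : Sec (Tw E L)) :
    BcTw g E L x = smap (TwPl g E L).hom (Bc g (Tw E L) x) :=
  PullP.bcTw_apply (isPullback_XTmap g).w (XTmap_fst (st k X) g) (isPB_pl g) (isPB_cst T) (isPB_cst T') E L x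

theorem bcTw_smul (g : T' ⟶ T) (E : (PicF.XT (st k X) T).Modules) (L : X.Modules) (a : Γ(T.left, ⊤))
    (x : Sec (Tw E L)) : BcTw g E L (a • x) = g.left.appTop a • BcTw g E L x :=
  PullP.bcTw_smul (isPullback_XTmap g).w (XTmap_fst (st k X) g) (isPB_pl g) (isPB_cst T) (isPB_cst T') E L a x

theorem bcTw_lmap (g : T' ⟶ T) {E E' : (PicF.XT (st k X) T).Modules} (φ : E ⟶ E') (L : X.Modules)
    (x : Sec (Tw E L)) : BcTw g E' L (smap (lmap φ L) x) = smap (lmap (plm g φ) L) (BcTw g E L x) :=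
  PullP.bcTw_gl (isPullback_XTmap g).w (XTmap_fst (st k X) g) (isPB_pl g) (isPB_cst T) (isPB_cst T') φ L x

theorem bcTw_rmap (g : T' ⟶ T) (E : (PicF.XT (st k X) T).Modules) {L L' : X.Modules} (b : L ⟶ L')
    (x : Sec (Tw E L)) : BcTw g E L' (smap (rmap E b) x) = smap (rmap (pl k X g E) b) (BcTw g E L x) :=
  PullP.bcTw_gr (isPullback_XTmap g).w (XTmap_fst (st k X) g) (isPB_pl g) (isPB_cst T) (isPB_cst T') E b x

theorem bcTw_comp (g : T' ⟶ T) (g' : T'' ⟶ T') (E : (PicF.XT (st k X) T).Modules) (L : X.Modules)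
    (x : Sec (Tw E L)) :
    smap (lmap (PlComp g g' E).hom L) (BcTw g' (pl k X g E) L (BcTw g E L x)) = BcTw (g' ≫ g) E L x :=
  PullP.bcTw_comp (isPullback_XTmap g).w (isPullback_XTmap g').w (XTmap_comp (st k X) g g').symm
    (isPullback_XTmap (g' ≫ g)).w (XTmap_fst (st k X) g) (XTmap_fst (st k X) g') (XTmap_fst (st k X) (g' ≫ g))
    (isPB_pl g) (isPB_pl g') (isPB_pl (g' ≫ g)) (isPB_cst T) (isPB_cst T') (isPB_cst T'') E L x

end Twist

end K54.FamSec
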