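import Groth.Agent.Coherent.K54.PushH1
import Groth.Agent.Coherent.K55.HX
import Groth.Agent.SDiv.K474.FittBlow

/-!
# Fitting ideals of the top direct image of a flat family

`π : X ⟶ Y` proper, locally of finite presentation, `F` finitely presented, flat over `Y`, with
`H^(p+1)` of all fibres zero.  Then `R^p π_* F` is of finite type and the formation of its Fitting ideals commutes
with every base change `Z ⟶ Y` (`isFT_Rpush`, `fitt_comap`).
-/

set_option autoImplicit false
universe u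

open AlgebraicGeometry CategoryTheory CategoryTheory.Limits Scheme.Modules TensorProduct

namespace K54.FittBC

open Groth.Agent Groth.Agent.CohqA.PullbackUniv Groth.Agent.CohqA.PullbackAffine
  Groth.Agent.CohqA.PullbackSections Groth.Agent.CohqA.AffineBaseChange
  Groth.Agent.CohqA.BaseChangeMod Groth.Agent.Ega3B K55 K55.Pack K55.KerAlg K54.PushSec K54.PushBC K54.PushH1

section Alg

variable {A : Type u} [CommRing A] (K : CxData A) (p : ℕ)
  (h : ∀ q : PrimeSpectrum A, Subsingleton (K.HB (p + 1) q.asIdeal.ResidueField))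

include h in
/-- The opcycles in degree `p + 1` are projective if `H^(p+1)` of all fibres vanishes. -/
theorem projective_O : Module.Projective A (K.O (p + 1)) := by
  rw [← Module.freeLocus_eq_univ_iff]
  exact Set.eq_univ_iff_forall.2 fun q => (of_subsingleton_ker (K.exact (p + 1)) (K.surj (p + 1)) q (h q)).2.1

include h in
theorem finite_H : Module.Finite A (K.H p) := by
  have := projective_O K p h
  exact finite_ker (K.exact p) (K.surj p)

include h in
theorem isBaseChange_res (B : Type u) [CommRing B] [Algebra A B] : IsBaseChange B (K.res p B) := by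
  have := projective_O K p h
  exact isBaseChange_kres_of_flat B (K.exact p) (K.surj p)

include h in
theorem fitt_HB (B : Type u) [CommRing B] [Algebra A B] (r : ℕ) :
    Fitt.ideal B (K.HB p B) r = (Fitt.ideal A (K.H p) r).map (algebraMap A B) := by
  have := finite_H K p h
  have hb := isBaseChange_res K p h B
  have := Module.Finite.equiv hb.equiv
  rw [← K360.FittBasic.ideal_congr hb.equiv]
  exact K360.FittBasic.ideal_baseChange B r

end Alg

variable {X Y : Scheme.{u}} (π : X ⟶ Y) (F : X.Modules)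

/-- The sections of `R^p ζ_* f^* F` over an affine open. -/
theorem exists_linearEquiv_HB {X' Z : Scheme.{u}} {f : X' ⟶ X} {ζ : X' ⟶ Z} {α : Z ⟶ Y}
    (h : IsPullback f ζ π α) [HasInjectiveResolutions X'.Modules] (hF : Coh.IsQCoh F)
    [QuasiCompact ζ] [QuasiSeparated ζ] {V : Y.Opens}
    (hV : IsAffineOpen V) (K : CxData Γ(Y, V)) (hK : CompData π F hV K) (p : ℕ)
    {V' : Z.Opens} (hV' : IsAffineOpen V') (e : V' ≤ α ⁻¹ᵁ V) :
    letI := (α.appLE V V' e).hom.toAlgebra
    Nonempty (Γ((Coh.Rpush ζ p).obj ((Scheme.Modules.pullback f).obj F), V') ≃ₗ[Γ(Z, V')] K.HB p Γ(Z, V')) := by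
  let iO : (π ⁻¹ᵁ V).toScheme.Over (Spec (CommRingCat.of Γ(Y, V))) := ⟨PackageAsm.strMap π hV⟩
  let := (α.appLE V V' e).hom.toAlgebra
  let N := (Scheme.Modules.pullback f).obj F
  have hN : Coh.IsQCoh N := by
    have : F.IsQuasicoherent := hF
    exact CohqA.PullbackQCoh.isQuasicoherent_pullback f F
  obtain ⟨e₁, he₁⟩ := RpushAff.exists_equiv_toGlobal ζ N hN hV' p
  let i := K55.HX.iso (CohPull.pullOnIso f (π ⁻¹ᵁ V) (ζ ⁻¹ᵁ V') (preimage_le h.w V V' e) F) p
  obtain ⟨θ₀, hθ⟩ := hK p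
  obtain ⟨θ, hθ1, -⟩ := hθ.bc Γ(Z, V') (ζ ⁻¹ᵁ V').toScheme
      (f.resLE (π ⁻¹ᵁ V) (ζ ⁻¹ᵁ V') (preimage_le h.w V V' e)) (PackageAsm.strMap ζ hV')
      (isPullback_str h hV hV' e)
  refine ⟨{ (e₁.trans i.symm).trans θ with map_smul' := fun b x => ?_ }⟩
  change θ (i.symm (e₁ (b • x))) = b • θ (i.symm (e₁ x))
  rw [he₁]
  refine (congrArg θ (K55.HX.iso_symm_smul _ p _ _)).trans ?_
  exact hθ1 b (i.symm (e₁ x))

variable [HasInjectiveResolutions X.Modules] [IsProper π] [LocallyOfFinitePresentation π]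
  (hfp : CohB1.IsFP F) (hfl : FlatMod.IsFlatOver π F) (p : ℕ)
  (hv : ∀ y : Y, Subsingleton (CohIII.fiberH π F y (p + 1)))

omit [HasInjectiveResolutions X.Modules] in
include hfp hfl hv in
theorem exists_data {V : Y.Opens} (hV : IsAffineOpen V) : ∃ K : CxData Γ(Y, V), CompData π F hV K ∧
    ∀ q : PrimeSpectrum Γ(Y, V), Subsingleton (K.HB (p + 1) q.asIdeal.ResidueField) := by
  obtain ⟨K, hK⟩ := exists_compData π F hfp hfl hV
  refine ⟨K, hK, fun q => ?_⟩
  have := subsingleton_HB π F (Models2.FPCoh.isQCoh_of_isFP hfp) hV K hK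
    ⟨hV.fromSpec q, SpecPoint.fromSpec_mem hV q⟩ (p + 1) (hv _)
  rwa [SpecPoint.primeIdealOf_fromSpec] at this

include hfp hfl hv in
theorem finite_sections {V : Y.Opens} (hV : IsAffineOpen V) :
    Module.Finite Γ(Y, V) Γ((Coh.Rpush π p).obj F, V) := by
  obtain ⟨K, hK, h⟩ := exists_data π F hfp hfl p hv hV
  obtain ⟨e⟩ := exists_linearEquiv_Rpush π F (Models2.FPCoh.isQCoh_of_isFP hfp) hV K hK p
  have := finite_H K p h
  exact Module.Finite.equiv e.symm

omit [LocallyOfFinitePresentation π] in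
include hfp in
theorem isQCoh_Rpush : Coh.IsQCoh ((Coh.Rpush π p).obj F) :=
  CohqA.RelCoh.isQCoh_Rpush π F (Models2.FPCoh.isQCoh_of_isFP hfp) p

include hfp hfl hv in
theorem isFT_Rpush : CohB1.IsFT ((Coh.Rpush π p).obj F) := by
  have := isQCoh_Rpush π F hfp p
  exact (CohqB.FiniteType2.isFT_iff_finite_sections _).2 fun V hV => finite_sections π F hfp hfl p hv hV

include hfp hfl hv in
/-- **Fitting ideals of the top direct image commute with base change.** -/
theorem fitt_comap {X' Z : Scheme.{u}} {f : X' ⟶ X} {ζ : X' ⟶ Z} {α : Z ⟶ Y}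
    (h : IsPullback f ζ π α) [HasInjectiveResolutions X'.Modules]
    (hft : CohB1.IsFT ((Coh.Rpush ζ p).obj ((Scheme.Modules.pullback f).obj F))) (r : ℕ) :
    (Fitt.sheafIdeal ((Coh.Rpush π p).obj F) r).comap α =
      Fitt.sheafIdeal ((Coh.Rpush ζ p).obj ((Scheme.Modules.pullback f).obj F)) r := by
  have hF := Models2.FPCoh.isQCoh_of_isFP hfp
  have hN : Coh.IsQCoh ((Scheme.Modules.pullback f).obj F) := by
    have : F.IsQuasicoherent := hF
    exact CohqA.PullbackQCoh.isQuasicoherent_pullback f F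
  have hp : IsProper ζ := MorphismProperty.of_isPullback h inferInstance
  have hq1 := isQCoh_Rpush π F hfp p
  have hq2 : Coh.IsQCoh ((Coh.Rpush ζ p).obj ((Scheme.Modules.pullback f).obj F)) :=
    CohqA.RelCoh.isQCoh_Rpush ζ _ hN p
  refine Divis.IdealComap.ext_of_forall_mem fun z => ?_
  obtain ⟨V, V', hV, hV', hzV, hVV⟩ := CohqA.PullbackQCoh.exists_affine_pair α z
  refine ⟨⟨V', hV'⟩, hzV, ?_⟩
  rw [Divis.IdealComap.ideal_comap _ α ⟨V, hV⟩ ⟨V', hV'⟩ hVV,
    SDiv.K474.FittSheaf.sheafIdeal_ideal _ hq1 (isFT_Rpush π F hfp hfl p hv),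
    SDiv.K474.FittSheaf.sheafIdeal_ideal _ hq2 hft]
  obtain ⟨K, hK, hs⟩ := exists_data π F hfp hfl p hv hV
  let := (α.appLE V V' hVV).hom.toAlgebra
  obtain ⟨e⟩ := exists_linearEquiv_Rpush π F hF hV K hK p
  obtain ⟨e'⟩ := exists_linearEquiv_HB π F h hF hV K hK p hV' hVV
  have i1 := finite_sections π F hfp hfl p hv hV
  have i2 := finite_H K p hs
  have i3 : Module.Finite Γ(Z, V') (K.HB p Γ(Z, V')) := Module.Finite.equiv (isBaseChange_res K p hs _).equiv
  have i4 := Module.Finite.equiv e'.symm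
  have j1 : Fitt.ideal Γ(Y, V) Γ((Coh.Rpush π p).obj F, V) r = Fitt.ideal Γ(Y, V) (K.H p) r :=
    K360.FittBasic.ideal_congr e r
  have j2 : Fitt.ideal Γ(Z, V') Γ((Coh.Rpush ζ p).obj ((Scheme.Modules.pullback f).obj F), V') r =
      Fitt.ideal Γ(Z, V') (K.HB p Γ(Z, V')) r :=
    K360.FittBasic.ideal_congr (R := Γ(Z, V')) e' r
  rw [j1, j2]
  exact (fitt_HB K p hs _ r).symm

end K54.FittBC
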