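import Groth.Agent.ASBun.K791.Tens
import Groth.Agent.Dcoh.MonPull3_292
import Groth.Agent.Fga.SecComp
import Groth.Agent.CohqA.AffineBaseChange

/-!
# Pull-back of `E ⊗ p^* L` and compositions

* `pcc w M : f^* g^* M ≅ h^* M` for `w : f ≫ g = h`;
* `gtw w E L : f^*(E ⊗ p^* L) ≅ f^* E ⊗ p'^* L` for `w : f ≫ p = p'`;
* `gtw_lmap`, `gtw_rmap`, `gtw_comp`: naturality and composition;
* `psec f G : Γ(G, ⊤) →+ Γ(f^* G, ⊤)` the pull-back of global sections; `gSec`, `gsmap`, `gbc`, `gbcTw`: the same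
  relative to a base.
-/

set_option autoImplicit false
universe u

open CategoryTheory CategoryTheory.Limits AlgebraicGeometry TensorProduct MonoidalCategory

namespace K54.GenPull

open Groth.Agent
open scoped Groth.Agent.Dcoh.MonCat
open Groth.Agent.Dcoh.MonTm (comp_ap id_ap tm tensorHom_tm whiskerLeft_tm whiskerRight_tm)
open scoped Groth.Agent.Dcoh.MonPull
open Groth.Agent.Dcoh.MonPull (pb map_pb pb_ext pb_ext₂ δ_pb)
open Functor.LaxMonoidal Functor.OplaxMonoidal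
open Groth.Agent.VarietyB.PullSec (sec)
open Groth.Agent.Fga.SecComp

section Mon

variable {C D : Type*} [Category* C] [Category* D] [MonoidalCategory C] [MonoidalCategory D]
  (F : C ⥤ D) [F.Monoidal]

theorem aux_l {E E' : C} (φ : E ⟶ E') {C₀ : C} {C₁ : D} (c : F.obj C₀ ⟶ C₁) :
    F.map (φ ▷ C₀) ≫ δ F E' C₀ ≫ F.obj E' ◁ c = (δ F E C₀ ≫ F.obj E ◁ c) ≫ F.map φ ▷ C₁ := by
  rw [Category.assoc, whisker_exchange, ← Category.assoc, ← Category.assoc, Functor.OplaxMonoidal.δ_natural_left]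

theorem aux_r (E : C) {C₀ C₀' : C} (b : C₀ ⟶ C₀') {C₁ C₁' : D} (b' : C₁ ⟶ C₁') (c : F.obj C₀ ⟶ C₁)
    (c' : F.obj C₀' ⟶ C₁') (h : F.map b ≫ c' = c ≫ b') :
    F.map (E ◁ b) ≫ δ F E C₀' ≫ F.obj E ◁ c' = (δ F E C₀ ≫ F.obj E ◁ c) ≫ F.obj E ◁ b' := by
  rw [Category.assoc, ← MonoidalCategory.whiskerLeft_comp, ← h, MonoidalCategory.whiskerLeft_comp, ← Category.assoc,
    ← Category.assoc, Functor.OplaxMonoidal.δ_natural_right]

/-- Monoidal transformations and `δ`. -/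
theorem aux_c {G : C ⥤ D} [G.Monoidal] (τ : F ⟶ G) [NatTrans.IsMonoidal τ] (M N : C) :
    τ.app (M ⊗ N) ≫ δ G M N = δ F M N ≫ (τ.app M ⊗ₘ τ.app N) := by
  rw [← cancel_epi (μ F M N), ← Category.assoc, NatTrans.IsMonoidal.tensor, Category.assoc, Functor.Monoidal.μ_δ,
    Category.comp_id, ← Category.assoc, Functor.Monoidal.μ_δ, Category.id_comp]

/-- The abstract form of `gtw_comp`. -/
theorem aux_comp {D' : Type*} [Category* D'] [MonoidalCategory D'] (P' : D ⥤ D') [P'.Monoidal] (P'' : C ⥤ D')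
    [P''.Monoidal] (τ : F ⋙ P' ⟶ P'') [NatTrans.IsMonoidal τ] (E C₀ : C) {C₁ : D} {C₂ : D'}
    (c : F.obj C₀ ⟶ C₁) (c' : P'.obj C₁ ⟶ C₂) (c'' : P''.obj C₀ ⟶ C₂) (h : P'.map c ≫ c' = τ.app C₀ ≫ c'') :
    P'.map (δ F E C₀ ≫ F.obj E ◁ c) ≫ (δ P' (F.obj E) C₁ ≫ P'.obj (F.obj E) ◁ c') ≫ τ.app E ▷ C₂ =
      τ.app (E ⊗ C₀) ≫ δ P'' E C₀ ≫ P''.obj E ◁ c'' := by
  have h1 := aux_c (F ⋙ P') τ E C₀
  rw [← Category.assoc (τ.app (E ⊗ C₀)), h1, Functor.OplaxMonoidal.comp_δ, Functor.map_comp, Category.assoc,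
    Category.assoc, Category.assoc, Category.assoc]
  congr 1
  rw [← Category.assoc (P'.map (F.obj E ◁ c)), ← Functor.OplaxMonoidal.δ_natural_right, Category.assoc]
  congr 1
  rw [← Category.assoc, ← MonoidalCategory.whiskerLeft_comp, h, MonoidalCategory.tensorHom_def',
    MonoidalCategory.whiskerLeft_comp, Category.assoc, Category.assoc]
  congr 1
  exact whisker_exchange _ _

end Mon

variable {X₀ Y Y' Y'' : Scheme.{u}}

/-- `f^* g^* M ≅ h^* M` for `f ≫ g = h`. -/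
noncomputable def pcc {X Y Z : Scheme.{u}} {f : X ⟶ Y} {g : Y ⟶ Z} {h : X ⟶ Z} (w : f ≫ g = h) (M : Z.Modules) :
    (Scheme.Modules.pullback f).obj ((Scheme.Modules.pullback g).obj M) ≅ (Scheme.Modules.pullback h).obj M :=
  (Scheme.Modules.pullbackComp f g).app M ≪≫ (Scheme.Modules.pullbackCongr w).app M

theorem pcc_sec {X Y Z : Scheme.{u}} {f : X ⟶ Y} {g : Y ⟶ Z} {h : X ⟶ Z} (w : f ≫ g = h) (M : Z.Modules)
    {U : Z.Opens} {V : Y.Opens} {W : X.Opens} (e : V ≤ g ⁻¹ᵁ U) (e' : W ≤ f ⁻¹ᵁ V) (e'' : W ≤ h ⁻¹ᵁ U)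
    (s : Γ(M, U)) :
    (pcc w M).hom.app W (sec f ((Scheme.Modules.pullback g).obj M) e' (sec g M e s)) = sec h M e'' s := by
  subst w
  rw [pcc, Iso.trans_hom, Iso.app_hom, Iso.app_hom, comp_ap, sec_comp f g M e e' e'' s]
  exact sec_congr rfl M e'' e'' s

theorem pcc_nat {X Y Z : Scheme.{u}} {f : X ⟶ Y} {g : Y ⟶ Z} {h : X ⟶ Z} (w : f ≫ g = h) {M N : Z.Modules}
    (b : M ⟶ N) : (Scheme.Modules.pullback f).map ((Scheme.Modules.pullback g).map b) ≫ (pcc w N).hom =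
      (pcc w M).hom ≫ (Scheme.Modules.pullback h).map b := by
  subst w
  have h1 := (Scheme.Modules.pullbackComp f g).hom.naturality b
  have h2 := (Scheme.Modules.pullbackCongr (rfl : f ≫ g = f ≫ g)).hom.naturality b
  rw [pcc, pcc, Iso.trans_hom, Iso.app_hom, Iso.app_hom, Iso.trans_hom, Iso.app_hom, Iso.app_hom, Category.assoc,
    ← h2, ← Category.assoc, ← Category.assoc]
  exact congrArg (· ≫ _) h1

/-- Morphisms out of `f^* g^* h^* M` are determined by pull-backs of sections. -/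
theorem ext₃ {W X Y Z : Scheme.{u}} {f : W ⟶ X} {g : X ⟶ Y} {h : Y ⟶ Z} {M : Z.Modules} {A : W.Modules}
    (φ ψ : (Scheme.Modules.pullback f).obj ((Scheme.Modules.pullback g).obj ((Scheme.Modules.pullback h).obj M)) ⟶ A)
    (H : ∀ (U : Z.Opens) (m : Γ(M, U)), φ.app (f ⁻¹ᵁ (g ⁻¹ᵁ (h ⁻¹ᵁ U))) (pb f (pb g (pb h m))) =
      ψ.app (f ⁻¹ᵁ (g ⁻¹ᵁ (h ⁻¹ᵁ U))) (pb f (pb g (pb h m)))) : φ = ψ := by
  apply ((Scheme.Modules.pullbackPushforwardAdjunction f).homEquiv _ _).injective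
  apply ((Scheme.Modules.pullbackPushforwardAdjunction g).homEquiv _ _).injective
  refine pb_ext h _ _ fun U m => ?_
  rw [Adjunction.homEquiv_unit, Adjunction.homEquiv_unit, Adjunction.homEquiv_unit, Adjunction.homEquiv_unit]
  exact H U m

theorem pb_eq_sec {X Y : Scheme.{u}} (f : X ⟶ Y) (M : Y.Modules) {V : Y.Opens} (m : Γ(M, V)) :
    pb f m = sec f M (le_refl (f ⁻¹ᵁ V)) m := (Ega1.SubSheaf.res_self _ _ _).symm

/-- Associativity of `pcc`. -/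
theorem pcc_assoc {p : Y ⟶ X₀} {p' : Y' ⟶ X₀} {p'' : Y'' ⟶ X₀} {f : Y' ⟶ Y} {f' : Y'' ⟶ Y'} {f'' : Y'' ⟶ Y}
    (w : f ≫ p = p') (w' : f' ≫ p' = p'') (v : f' ≫ f = f'') (w'' : f'' ≫ p = p'') (L : X₀.Modules) :
    (Scheme.Modules.pullback f').map (pcc w L).hom ≫ (pcc w' L).hom =
      (pcc v ((Scheme.Modules.pullback p).obj L)).hom ≫ (pcc w'' L).hom := by
  refine ext₃ _ _ fun U l => ?_
  have e1 : f' ⁻¹ᵁ (f ⁻¹ᵁ (p ⁻¹ᵁ U)) ≤ f' ⁻¹ᵁ (p' ⁻¹ᵁ U) := by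
    subst w; exact le_rfl
  have e2 : f ⁻¹ᵁ (p ⁻¹ᵁ U) ≤ p' ⁻¹ᵁ U := by
    subst w; exact le_rfl
  have e3 : f' ⁻¹ᵁ (f ⁻¹ᵁ (p ⁻¹ᵁ U)) ≤ p'' ⁻¹ᵁ U := by
    subst w w'; exact le_rfl
  have e4 : f' ⁻¹ᵁ (f ⁻¹ᵁ (p ⁻¹ᵁ U)) ≤ f'' ⁻¹ᵁ (p ⁻¹ᵁ U) := by
    subst v; exact le_rfl
  rw [comp_ap, comp_ap, pb_eq_sec, pb_eq_sec, pb_eq_sec, map_sec, pcc_sec w L le_rfl le_rfl e2, pcc_sec w' L e2 le_rfl e3,
    pcc_sec v _ le_rfl le_rfl e4, pcc_sec w'' L le_rfl e4 e3]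

/-- `f^*(E ⊗ p^* L) ≅ f^* E ⊗ p'^* L`. -/
noncomputable def gtw {p : Y ⟶ X₀} {p' : Y' ⟶ X₀} {f : Y' ⟶ Y} (w : f ≫ p = p') (E : Y.Modules) (L : X₀.Modules) :
    (Scheme.Modules.pullback f).obj (CohB1.tensorMod E ((Scheme.Modules.pullback p).obj L)) ≅
      CohB1.tensorMod ((Scheme.Modules.pullback f).obj E) ((Scheme.Modules.pullback p').obj L) :=
  ASBun.K791.Tens.pullTens _ _ _ ≪≫ ASBun.K791.Tens.tensMap (Iso.refl _) (pcc w L)

theorem gtw_hom {p : Y ⟶ X₀} {p' : Y' ⟶ X₀} {f : Y' ⟶ Y} (w : f ≫ p = p') (E : Y.Modules) (L : X₀.Modules) :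
    (gtw w E L).hom = δ (Scheme.Modules.pullback f) E ((Scheme.Modules.pullback p).obj L) ≫
      ((Scheme.Modules.pullback f).obj E) ◁ (pcc w L).hom := by
  rw [← MonoidalCategory.id_tensorHom]
  rfl

/-- `E ⊗ p^*L ⟶ E' ⊗ p^*L`. -/
noncomputable def gl (p : Y ⟶ X₀) {E E' : Y.Modules} (φ : E ⟶ E') (L : X₀.Modules) :
    CohB1.tensorMod E ((Scheme.Modules.pullback p).obj L) ⟶ CohB1.tensorMod E' ((Scheme.Modules.pullback p).obj L) :=
  φ ▷ ((Scheme.Modules.pullback p).obj L)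

/-- `E ⊗ p^*L ⟶ E ⊗ p^*L'`. -/
noncomputable def gr (p : Y ⟶ X₀) (E : Y.Modules) {L L' : X₀.Modules} (b : L ⟶ L') :
    CohB1.tensorMod E ((Scheme.Modules.pullback p).obj L) ⟶ CohB1.tensorMod E ((Scheme.Modules.pullback p).obj L') :=
  E ◁ ((Scheme.Modules.pullback p).map b)

theorem gl_id (p : Y ⟶ X₀) (E : Y.Modules) (L : X₀.Modules) : gl p (𝟙 E) L = 𝟙 _ :=
  MonoidalCategory.id_whiskerRight _ _

theorem gl_comp (p : Y ⟶ X₀) {E E' E'' : Y.Modules} (φ : E ⟶ E') (ψ : E' ⟶ E'') (L : X₀.Modules) :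
    gl p (φ ≫ ψ) L = gl p φ L ≫ gl p ψ L := MonoidalCategory.comp_whiskerRight _ _ _

theorem gr_comp (p : Y ⟶ X₀) (E : Y.Modules) {L L' L'' : X₀.Modules} (b : L ⟶ L') (c : L' ⟶ L'') :
    gr p E (b ≫ c) = gr p E b ≫ gr p E c := by
  unfold gr
  rw [Functor.map_comp]
  exact MonoidalCategory.whiskerLeft_comp _ _ _

theorem gl_gr (p : Y ⟶ X₀) {E E' : Y.Modules} (φ : E ⟶ E') {L L' : X₀.Modules} (b : L ⟶ L') :
    gl p φ L ≫ gr p E' b = gr p E b ≫ gl p φ L' := (whisker_exchange _ _).symm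

theorem gtw_gl {p : Y ⟶ X₀} {p' : Y' ⟶ X₀} {f : Y' ⟶ Y} (w : f ≫ p = p') {E E' : Y.Modules} (φ : E ⟶ E')
    (L : X₀.Modules) : (Scheme.Modules.pullback f).map (gl p φ L) ≫ (gtw w E' L).hom =
      (gtw w E L).hom ≫ gl p' ((Scheme.Modules.pullback f).map φ) L := by
  rw [gtw_hom, gtw_hom]
  exact aux_l (Scheme.Modules.pullback f) φ (pcc w L).hom

theorem gtw_gr {p : Y ⟶ X₀} {p' : Y' ⟶ X₀} {f : Y' ⟶ Y} (w : f ≫ p = p') (E : Y.Modules) {L L' : X₀.Modules}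
    (b : L ⟶ L') : (Scheme.Modules.pullback f).map (gr p E b) ≫ (gtw w E L').hom =
      (gtw w E L).hom ≫ gr p' ((Scheme.Modules.pullback f).obj E) b := by
  rw [gtw_hom, gtw_hom]
  exact aux_r (Scheme.Modules.pullback f) E ((Scheme.Modules.pullback p).map b) ((Scheme.Modules.pullback p').map b)
    _ _ (pcc_nat w b)

/-- `pcc` as a monoidal natural transformation. -/
noncomputable def pccNT {X Y Z : Scheme.{u}} {f : X ⟶ Y} {g : Y ⟶ Z} {h : X ⟶ Z} (w : f ≫ g = h) :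
    Scheme.Modules.pullback g ⋙ Scheme.Modules.pullback f ⟶ Scheme.Modules.pullback h :=
  (Scheme.Modules.pullbackComp f g).hom ≫ (Scheme.Modules.pullbackCongr w).hom

instance isMonoidal_pccNT {X Y Z : Scheme.{u}} {f : X ⟶ Y} {g : Y ⟶ Z} {h : X ⟶ Z} (w : f ≫ g = h) :
    NatTrans.IsMonoidal (pccNT w) := by
  have := Dcoh.MonPull.isMonoidal_pullbackCongr_hom w
  unfold pccNT
  infer_instance

theorem pccNT_app {X Y Z : Scheme.{u}} {f : X ⟶ Y} {g : Y ⟶ Z} {h : X ⟶ Z} (w : f ≫ g = h) (M : Z.Modules) :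
    (pccNT w).app M = (pcc w M).hom := rfl

/-- Composition. -/
theorem gtw_comp {p : Y ⟶ X₀} {p' : Y' ⟶ X₀} {p'' : Y'' ⟶ X₀} {f : Y' ⟶ Y} {f' : Y'' ⟶ Y'} {f'' : Y'' ⟶ Y}
    (w : f ≫ p = p') (w' : f' ≫ p' = p'') (v : f' ≫ f = f'') (w'' : f'' ≫ p = p'') (E : Y.Modules)
    (L : X₀.Modules) :
    (Scheme.Modules.pullback f').map (gtw w E L).hom ≫ (gtw w' ((Scheme.Modules.pullback f).obj E) L).hom ≫
        gl p'' (pcc v E).hom L = (pcc v _).hom ≫ (gtw w'' E L).hom := by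
  rw [gtw_hom, gtw_hom, gtw_hom]
  exact aux_comp (Scheme.Modules.pullback f) (Scheme.Modules.pullback f') (Scheme.Modules.pullback f'') (pccNT v)
    E ((Scheme.Modules.pullback p).obj L) (pcc w L).hom (pcc w' L).hom (pcc w'' L).hom (pcc_assoc w w' v w'' L)

/-- Pull-back of global sections. -/
noncomputable def psec (f : Y' ⟶ Y) (G : Y.Modules) : Γ(G, ⊤) →+ Γ((Scheme.Modules.pullback f).obj G, ⊤) :=
  (((Scheme.Modules.pullbackPushforwardAdjunction f).unit.app G).app ⊤).hom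

theorem psec_map (f : Y' ⟶ Y) {G G' : Y.Modules} (φ : G ⟶ G') (x : Γ(G, ⊤)) :
    ((Scheme.Modules.pullback f).map φ).app ⊤ (psec f G x) = psec f G' (φ.app ⊤ x) :=
  map_pb f φ (V := ⊤) x

theorem psec_eq_sec (f : Y' ⟶ Y) (G : Y.Modules) (x : Γ(G, ⊤)) :
    psec f G x = sec f G (U := ⊤) (V := ⊤) le_top x := (Ega1.SubSheaf.res_self _ _ _).symm

theorem psec_comp {f : Y' ⟶ Y} {f' : Y'' ⟶ Y'} {f'' : Y'' ⟶ Y} (v : f' ≫ f = f'') (G : Y.Modules) (x : Γ(G, ⊤)) :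
    (pcc v G).hom.app ⊤ (psec f' _ (psec f G x)) = psec f'' G x := by
  rw [psec_eq_sec, psec_eq_sec, psec_eq_sec]
  exact pcc_sec v G le_top le_top le_top x

theorem psec_id {f : Y ⟶ Y} (h : f = 𝟙 Y) (G : Y.Modules) (x : Γ(G, ⊤)) :
    ((Scheme.Modules.pullbackCongr h).app G ≪≫ (Scheme.Modules.pullbackId Y).app G).hom.app ⊤ (psec f G x) = x := by
  subst h
  rw [Iso.trans_hom, Iso.app_hom, Iso.app_hom, comp_ap, psec_eq_sec, sec_congr rfl G le_top le_top x]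
  refine Eq.trans ?_ (Dcoh.MonPull.pullbackId_hom_pb (M := G) (V := ⊤) x)
  rw [← psec_eq_sec]
  rfl

section Square

open CohqA.PullbackAffine CohqA.AffineBaseChange CohqA.PullbackSections

variable {X S X' S' X'' S'' : Scheme.{u}} {f : X ⟶ S} {g : S' ⟶ S} {g' : X' ⟶ X} {f' : X' ⟶ S'}

theorem psec_eq_secMap (w : g' ≫ f = f' ≫ g) (M : X.Modules) (x : Γ((Scheme.Modules.pushforward f).obj M, ⊤)) :
    secMap g (pushSquare f g g' f' w (pbUnit g' M)) ⊤ ⊤ le_top x = psec g' M x := by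
  refine (secMap_pushSquare f g g' f' w (pbUnit g' M) ⊤ ⊤ le_top le_top x).trans ?_
  exact congr($(((Scheme.Modules.pullback g').obj M).presheaf.map_id (Opposite.op ⊤)) (psec g' M x))

/-- Sections over `X` as a module over the functions on `S`. -/
abbrev gSec (f : X ⟶ S) (M : X.Modules) : Type u := Γ((Scheme.Modules.pushforward f).obj M, ⊤)

/-- Functoriality of the sections. -/
noncomputable def gsmap (f : X ⟶ S) {M M' : X.Modules} (φ : M ⟶ M') : gSec f M →ₗ[Γ(S, ⊤)] gSec f M' where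
  toFun := ((Scheme.Modules.pushforward f).map φ).app ⊤
  map_add' := map_add _
  map_smul' := fun _ _ => Scheme.Modules.Hom.app_smul _ _ _

theorem gsmap_apply (f : X ⟶ S) {M M' : X.Modules} (φ : M ⟶ M') (x : gSec f M) : gsmap f φ x = φ.app ⊤ x := rfl

theorem gsmap_id (f : X ⟶ S) {M : X.Modules} (x : gSec f M) : gsmap f (𝟙 M) x = x := rfl

theorem gsmap_comp (f : X ⟶ S) {M M' M'' : X.Modules} (φ : M ⟶ M') (ψ : M' ⟶ M'') (x : gSec f M) :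
    gsmap f (φ ≫ ψ) x = gsmap f ψ (gsmap f φ x) := rfl

theorem gsmap_add (f : X ⟶ S) {M M' : X.Modules} (φ ψ : M ⟶ M') (x : gSec f M) :
    gsmap f (φ + ψ) x = gsmap f φ x + gsmap f ψ x := rfl

/-- The linear equivalence induced by an isomorphism. -/
noncomputable def gsIso (f : X ⟶ S) {M M' : X.Modules} (e : M ≅ M') : gSec f M ≃ₗ[Γ(S, ⊤)] gSec f M' where
  __ := gsmap f e.hom
  invFun := gsmap f e.inv
  left_inv x := by
    change gsmap f e.inv (gsmap f e.hom x) = x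
    rw [← gsmap_comp, e.hom_inv_id, gsmap_id]
  right_inv x := by
    change gsmap f e.hom (gsmap f e.inv x) = x
    rw [← gsmap_comp, e.inv_hom_id, gsmap_id]

theorem gsIso_apply (f : X ⟶ S) {M M' : X.Modules} (e : M ≅ M') (x : gSec f M) : gsIso f e x = gsmap f e.hom x := rfl

/-- Pull-back of sections along a commutative square. -/
noncomputable def gbc (_w : g' ≫ f = f' ≫ g) (M : X.Modules) : gSec f M →+ gSec f' ((Scheme.Modules.pullback g').obj M) :=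
  psec g' M

theorem gbc_eq_secMap (w : g' ≫ f = f' ≫ g) (M : X.Modules) (x : gSec f M) :
    gbc w M x = secMap g (pushSquare f g g' f' w (pbUnit g' M)) ⊤ ⊤ le_top x := (psec_eq_secMap w M x).symm

theorem gbc_smul (w : g' ≫ f = f' ≫ g) (M : X.Modules) (a : Γ(S, ⊤)) (x : gSec f M) :
    gbc w M (a • x) = g.appTop a • gbc w M x := by
  have h := secMap_smul g (pushSquare f g g' f' w (pbUnit g' M)) ⊤ ⊤ le_top a x
  rw [gbc_eq_secMap, gbc_eq_secMap]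
  refine h.trans ?_
  rw [Scheme.Hom.appTop, Scheme.Hom.app_eq_appLE]
  rfl

theorem gbc_map (w : g' ≫ f = f' ≫ g) {M M' : X.Modules} (φ : M ⟶ M') (x : gSec f M) :
    gbc w M' (gsmap f φ x) = gsmap f' ((Scheme.Modules.pullback g').map φ) (gbc w M x) :=
  (psec_map g' φ x).symm

theorem gbc_comp {h : S'' ⟶ S'} {h' : X'' ⟶ X'} {f'' : X'' ⟶ S''} {l : S'' ⟶ S} {l' : X'' ⟶ X}
    (w : g' ≫ f = f' ≫ g) (w' : h' ≫ f' = f'' ≫ h) (v : h' ≫ g' = l') (w'' : l' ≫ f = f'' ≫ l) (M : X.Modules)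
    (x : gSec f M) : gsmap f'' (pcc v M).hom (gbc w' _ (gbc w M x)) = gbc w'' M x := psec_comp v M x

/-- `1^* M ≅ M`. -/
noncomputable def pid {g : X ⟶ X} (h : g = 𝟙 X) (M : X.Modules) : (Scheme.Modules.pullback g).obj M ≅ M :=
  (Scheme.Modules.pullbackCongr h).app M ≪≫ (Scheme.Modules.pullbackId X).app M

theorem gbc_id {g : S ⟶ S} {g' : X ⟶ X} (h : g' = 𝟙 X) (w : g' ≫ f = f ≫ g) (M : X.Modules) (x : gSec f M) :
    gsmap f (pid h M).hom (gbc w M x) = x := psec_id h M x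

/-- Pull-back of sections of `E ⊗ p^* L`. -/
noncomputable def gbcTw {p : X ⟶ X₀} {p' : X' ⟶ X₀} (w : g' ≫ f = f' ≫ g) (v : g' ≫ p = p') (E : X.Modules)
    (L : X₀.Modules) : gSec f (CohB1.tensorMod E ((Scheme.Modules.pullback p).obj L)) →+
      gSec f' (CohB1.tensorMod ((Scheme.Modules.pullback g').obj E) ((Scheme.Modules.pullback p').obj L)) :=
  (gsmap f' (gtw v E L).hom).toAddMonoidHom.comp (gbc w _)

theorem gbcTw_apply {p : X ⟶ X₀} {p' : X' ⟶ X₀} (w : g' ≫ f = f' ≫ g) (v : g' ≫ p = p') (E : X.Modules)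
    (L : X₀.Modules) (x : gSec f (CohB1.tensorMod E ((Scheme.Modules.pullback p).obj L))) :
    gbcTw w v E L x = gsmap f' (gtw v E L).hom (gbc w _ x) := rfl

theorem gbcTw_smul {p : X ⟶ X₀} {p' : X' ⟶ X₀} (w : g' ≫ f = f' ≫ g) (v : g' ≫ p = p') (E : X.Modules)
    (L : X₀.Modules) (a : Γ(S, ⊤)) (x : gSec f (CohB1.tensorMod E ((Scheme.Modules.pullback p).obj L))) :
    gbcTw w v E L (a • x) = g.appTop a • gbcTw w v E L x := by
  rw [gbcTw_apply, gbc_smul, map_smul, gbcTw_apply]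

theorem gbcTw_gl {p : X ⟶ X₀} {p' : X' ⟶ X₀} (w : g' ≫ f = f' ≫ g) (v : g' ≫ p = p') {E E' : X.Modules}
    (φ : E ⟶ E') (L : X₀.Modules) (x : gSec f (CohB1.tensorMod E ((Scheme.Modules.pullback p).obj L))) :
    gbcTw w v E' L (gsmap f (gl p φ L) x) =
      gsmap f' (gl p' ((Scheme.Modules.pullback g').map φ) L) (gbcTw w v E L x) := by
  rw [gbcTw_apply, gbc_map, gbcTw_apply, ← gsmap_comp, ← gsmap_comp, gtw_gl]

theorem gbcTw_gr {p : X ⟶ X₀} {p' : X' ⟶ X₀} (w : g' ≫ f = f' ≫ g) (v : g' ≫ p = p') (E : X.Modules)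
    {L L' : X₀.Modules} (b : L ⟶ L') (x : gSec f (CohB1.tensorMod E ((Scheme.Modules.pullback p).obj L))) :
    gbcTw w v E L' (gsmap f (gr p E b) x) = gsmap f' (gr p' _ b) (gbcTw w v E L x) := by
  rw [gbcTw_apply, gbc_map, gbcTw_apply, ← gsmap_comp, ← gsmap_comp, gtw_gr]

theorem gbcTw_comp {h : S'' ⟶ S'} {h' : X'' ⟶ X'} {f'' : X'' ⟶ S''} {l : S'' ⟶ S} {l' : X'' ⟶ X}
    {p : X ⟶ X₀} {p' : X' ⟶ X₀} {p'' : X'' ⟶ X₀}
    (w : g' ≫ f = f' ≫ g) (w' : h' ≫ f' = f'' ≫ h) (v : h' ≫ g' = l') (w'' : l' ≫ f = f'' ≫ l)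
    (u : g' ≫ p = p') (u' : h' ≫ p' = p'') (u'' : l' ≫ p = p'') (E : X.Modules) (L : X₀.Modules)
    (x : gSec f (CohB1.tensorMod E ((Scheme.Modules.pullback p).obj L))) :
    gsmap f'' (gl p'' (pcc v E).hom L) (gbcTw w' u' _ L (gbcTw w u E L x)) = gbcTw w'' u'' E L x := by
  rw [gbcTw_apply, gbcTw_apply, gbcTw_apply, gbc_map, ← gbc_comp w w' v w'', ← gsmap_comp, ← gsmap_comp, ← gsmap_comp,
    ← gtw_comp u u' v u'']

end Square

end K54.GenPull
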